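import Cfsg.Agent.Lib.PSL2.Tori
import Cfsg.Agent.Lib.CharApps.ClassSizes.Basic

/-!
# Centralisers in `PSL₂(q)`
-/

set_option autoImplicit false
set_option linter.style.haveILetI false
set_option linter.unusedSectionVars false

namespace CfsgLib.CsPSL

open Matrix MulAction CfsgLib.Classical CfsgLib.PSL2
open CharApps.ClassSizes (mem_C idx)
open scoped LinearAlgebra.Projectivization

/-- The parameters of `PSL₂(q)`: `h` and `k` are the orders of the two tori, and `h` is even when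
`q` is odd. -/
structure Par (p f q d h k : ℕ) : Prop where
  hp : p.Prime
  hq : q = p ^ f
  hf : 0 < f
  h3 : 3 ≤ h
  k3 : 3 ≤ k
  hd : (d = 1 ∧ p = 2 ∧ h + 1 = q ∧ k = q + 1) ∨
    (d = 2 ∧ p ≠ 2 ∧ Even h ∧ Odd k ∧ ((2 * h + 1 = q ∧ 2 * k = q + 1) ∨ (2 * h = q + 1 ∧ 2 * k + 1 = q)))

namespace Par

variable {p f q d h k : ℕ} (P : Par p f q d h k)
include P

theorem d_cases : (d = 1 ∧ p = 2) ∨ (d = 2 ∧ p ≠ 2) := by
  rcases P.hd with ⟨h1, h2, -⟩ | ⟨h1, h2, -⟩
  · exact .inl ⟨h1, h2⟩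
  · exact .inr ⟨h1, h2⟩

theorem d_pos : 0 < d := by rcases P.d_cases with ⟨h1, -⟩ | ⟨h1, -⟩ <;> omega

theorem four_le : 4 ≤ q := by
  have := P.h3; have := P.k3
  rcases P.hd with ⟨-, -, h1, h2⟩ | ⟨-, -, -, -, (⟨h1, h2⟩ | ⟨h1, h2⟩)⟩ <;> omega

theorem sq_eq : d * d * h * k + 1 = q * q := by
  rcases P.hd with ⟨rfl, -, rfl, rfl⟩ | ⟨rfl, -, -, -, (⟨rfl, h2⟩ | ⟨h1, rfl⟩)⟩
  · ring
  · obtain rfl : k = h + 1 := by omega
    ring
  · obtain rfl : h = k + 1 := by omega
    ring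

theorem cop_hk : h.Coprime k := by
  rcases P.hd with ⟨-, hp2, h1, h2⟩ | ⟨-, -, -, -, (⟨h1, h2⟩ | ⟨h1, h2⟩)⟩
  · have he : Even q := by rw [P.hq, hp2]; exact (Nat.even_pow' P.hf.ne').2 even_two
    rw [h2, ← h1, show h + 1 + 1 = h + 2 from rfl, Nat.coprime_self_add_right]
    exact Nat.coprime_two_right.2 (by rw [← h1, Nat.even_add_one, Nat.not_even_iff_odd] at he; exact he)
  · rw [show k = h + 1 by omega, Nat.coprime_self_add_right]
    exact Nat.coprime_one_right h
  · rw [show h = k + 1 by omega, Nat.coprime_self_add_left]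
    exact Nat.coprime_one_left k

theorem cop_q : q.Coprime (d * d * h * k) := by
  have h1 : (d * d * h * k).Coprime (q * q) := by
    rw [← P.sq_eq, Nat.coprime_self_add_right]
    exact Nat.coprime_one_right _
  exact h1.coprime_mul_left_right.symm

theorem cop_qd : q.Coprime d :=
  P.cop_q.coprime_mul_right_right.coprime_mul_right_right.coprime_mul_right_right

theorem cop_qh : q.Coprime h := P.cop_q.coprime_mul_right_right.coprime_mul_left_right

theorem cop_qk : q.Coprime k := P.cop_q.coprime_mul_left_right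

theorem cop_dk : d.Coprime k := by
  rcases P.hd with ⟨rfl, -⟩ | ⟨rfl, -, -, ho, -⟩
  · exact Nat.coprime_one_left k
  · exact Nat.coprime_two_left.2 ho

theorem not_p_dvd : ¬ p ∣ d ∧ ¬ p ∣ h ∧ ¬ p ∣ k := by
  have hpq : p ∣ q := P.hq ▸ dvd_pow_self p P.hf.ne'
  exact ⟨fun e => P.hp.not_dvd_one (P.cop_qd ▸ Nat.dvd_gcd hpq e),
    fun e => P.hp.not_dvd_one (P.cop_qh ▸ Nat.dvd_gcd hpq e),
    fun e => P.hp.not_dvd_one (P.cop_qk ▸ Nat.dvd_gcd hpq e)⟩

theorem tori : ((q - 1) / d = h ∧ (q + 1) / d = k) ∨ ((q - 1) / d = k ∧ (q + 1) / d = h) := by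
  rcases P.hd with ⟨rfl, -, h1, h2⟩ | ⟨rfl, -, -, -, (⟨h1, h2⟩ | ⟨h1, h2⟩)⟩
  · exact .inl ⟨by rw [Nat.div_one]; omega, by rw [Nat.div_one]; omega⟩
  · exact .inl ⟨by omega, by omega⟩
  · exact .inr ⟨by omega, by omega⟩

end Par

/-- What is used of the group `PSL₂(q)`. -/
structure LData (q d h k : ℕ) (L : Type*) [Group L] : Prop where
  card : Nat.card L = q * d * h * k
  sizes : ∀ u : L, idx u = 1 ∨ idx u = d * h * k ∨ idx u = q * k ∨ idx u = d * q * k ∨ idx u = d * q * h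
  mem_p : ∃ u : L, idx u = d * h * k
  cyc_h : ∃ u : L, IsCyclic ↥(Subgroup.centralizer ({u} : Set L)) ∧
    Nat.card ↥(Subgroup.centralizer ({u} : Set L)) = h
  cyc_k : ∃ u : L, IsCyclic ↥(Subgroup.centralizer ({u} : Set L)) ∧
    Nat.card ↥(Subgroup.centralizer ({u} : Set L)) = k
  mem_two : d = 2 → ∃ u : L, idx u = q * k
  dih : d = 2 → ∀ u : L, idx u = q * k → ∃ r w : L, orderOf r = h ∧ w * r * w⁻¹ = r⁻¹ ∧
    r ^ (h / 2) = u ∧ Subgroup.centralizer ({u} : Set L) = Subgroup.closure {r, w}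

section PGL

variable {F : Type*} [Field F] [Finite F] {p : ℕ} [Fact p.Prime] [CharP F p]

local notation "PG" => Matrix.ProjGenLinGroup (Fin 2) F
local notation "PE" => ℙ (Ext2 F p) (Fin 2 → Ext2 F p)
local notation "C(" g ")" => Subgroup.centralizer ({g} : Set PG)

theorem affP_pow (c : Fˣ) (t : F) (n : ℕ) : ∃ t', affP c t ^ n = affP (c ^ n) t' := by
  induction n with
  | zero => exact ⟨0, by rw [pow_zero, pow_zero, affP_one]⟩
  | succ n ih =>
    obtain ⟨t', ht'⟩ := ih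
    exact ⟨_, by rw [pow_succ, ht', affP_mul, ← pow_succ]⟩

theorem affP_one_pow (t : F) (n : ℕ) : affP (1 : Fˣ) t ^ n = affP 1 ((n : F) * t) := by
  induction n with
  | zero => rw [pow_zero, Nat.cast_zero, zero_mul, affP_one]
  | succ n ih =>
    rw [pow_succ, ih, affP_mul, mul_one]
    congr 1
    push_cast
    ring

variable (p) in
theorem mem_pslRange_of_pow {g : PG} (hg : g ^ p = 1) : g ∈ pslRange F := by
  rcases Nat.even_or_odd (Nat.card F) with he | ho
  · rw [pslRange_eq_top_of_even he]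
    exact Subgroup.mem_top g
  · have h2 : g ^ 2 ∈ pslRange F := by
      have h := Subgroup.pow_index_mem (pslRange F) g
      rwa [index_pslRange, gcd_two_card_sub_one_of_odd ho] at h
    have hp2 : p ≠ 2 := by
      obtain ⟨j, hj, hc⟩ := card_eq_charPow (F := F) (p := p)
      rintro rfl
      rw [hc] at ho
      exact Nat.not_even_iff_odd.2 ho ((Nat.even_pow' hj.ne').2 even_two)
    obtain ⟨j, hj⟩ := (Fact.out : p.Prime).odd_of_ne_two hp2
    have h3 : g = g ^ p * ((g ^ 2) ^ j)⁻¹ := by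
      rw [eq_mul_inv_iff_mul_eq, ← pow_mul, ← pow_succ', hj]
    rw [h3, hg, one_mul]
    exact inv_mem (pow_mem h2 j)

variable (p) in
theorem card_cent_unip {g : PG} (hg : g ≠ 1) (hp : g ^ p = 1) :
    Nat.card ↥(C(g) ⊓ pslRange F) = Nat.card F := by
  classical
  obtain ⟨x, hx⟩ := exists_rational_fix p hp
  obtain ⟨y, hy, -⟩ := exists_third x x
  obtain ⟨k, hkx, -⟩ := exists_to_std hy
  have hkg := conj_smul_eq hkx hx
  obtain ⟨c, t₀, hct⟩ := exists_affP_of_fix hkg
  have hgp : (k⁻¹ * g * k) ^ p = 1 := by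
    rw [show k⁻¹ * g * k = k⁻¹ * g * (k⁻¹)⁻¹ by rw [inv_inv], conj_pow, hp]
    group
  obtain rfl : c = 1 := by
    obtain ⟨t', ht'⟩ := affP_pow c t₀ p
    rw [hct, ht', ← affP_one] at hgp
    have h2 : ((c : F)) ^ p = 1 := by
      rw [← Units.val_pow_eq_pow_val, (affP_injective hgp).1, Units.val_one]
    refine Units.ext (frobenius_inj F p ?_)
    rw [frobenius_def, h2, Units.val_one, map_one]
  have hg' : g = k * affP 1 t₀ * k⁻¹ := by rw [← hct]; group
  have ht₀ : t₀ ≠ 0 := by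
    rintro rfl
    rw [affP_one, mul_one, mul_inv_cancel] at hg'
    exact hg hg'
  have hmem : ∀ t : F, k * affP 1 t * k⁻¹ ∈ C(g) ⊓ pslRange F := by
    intro t
    refine ⟨mem_C.2 ?_, mem_pslRange_of_pow p ?_⟩
    · rw [hg']
      show k * affP 1 t * k⁻¹ * (k * affP 1 t₀ * k⁻¹) = k * affP 1 t₀ * k⁻¹ * (k * affP 1 t * k⁻¹)
      rw [show k * affP 1 t * k⁻¹ * (k * affP 1 t₀ * k⁻¹) = k * (affP 1 t * affP 1 t₀) * k⁻¹ by group,
        show k * affP 1 t₀ * k⁻¹ * (k * affP 1 t * k⁻¹) = k * (affP 1 t₀ * affP 1 t) * k⁻¹ by group,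
        affP_mul, affP_mul]
      simp [add_comm]
    · rw [conj_pow, affP_one_pow, CharP.cast_eq_zero F p, zero_mul, affP_one, mul_one, mul_inv_cancel]
  refine (Nat.card_congr (Equiv.ofBijective
    (fun t : F => (⟨k * affP 1 t * k⁻¹, hmem t⟩ : ↥(C(g) ⊓ pslRange F))) ⟨fun t t' he => ?_, fun z => ?_⟩)).symm
  · have h1 := congrArg Subtype.val he
    simp only [mul_left_inj, mul_right_inj] at h1
    exact (affP_injective h1).2
  · obtain ⟨z, hz, -⟩ := z
    have hc : Commute z g := mem_C.1 hz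
    have hzx : z • x = x :=
      PSL2.smul_eq_of_commute (p1Like_pgl p) hg hp hx hc.eq
    obtain ⟨c, t, hz'⟩ := exists_affP_of_fix (conj_smul_eq hkx hzx)
    have hcomm : affP c t * affP 1 t₀ = affP 1 t₀ * affP c t := by
      rw [← hz', ← hct]
      calc k⁻¹ * z * k * (k⁻¹ * g * k) = k⁻¹ * (z * g) * k := by group
        _ = k⁻¹ * (g * z) * k := by rw [hc.eq]
        _ = _ := by group
    rw [affP_mul, affP_mul] at hcomm
    have h2 := (affP_injective hcomm).2
    simp only [Units.val_one, one_mul, add_comm t t₀, add_left_inj] at h2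
    obtain rfl : c = 1 := Units.ext (mul_right_cancel₀ ht₀ (by rw [h2, Units.val_one, one_mul]))
    exact ⟨t, Subtype.ext (by show k * affP 1 t * k⁻¹ = z; rw [← hz']; group)⟩

theorem exists_two_fixed {g : PG} (hp : g ^ p ≠ 1) :
    ∃ a b : PE, GoodPair a b ∧ g • a = a ∧ g • b = b ∧ ∀ c : PE, g • c = c → c = a ∨ c = b := by
  have hPE : P1Like p PG PE := p1Like_ext
  have hg : g ≠ 1 := fun e => hp (by rw [e, one_pow])
  obtain ⟨a, ha⟩ := exists_fix_ext (p := p) g
  obtain ⟨b, hba, hb⟩ := hPE.exists_other hp ha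
  refine ⟨a, b, goodPair_of_fixed hg hba.symm ha hb, ha, hb, fun c hc => ?_⟩
  by_contra hno
  push Not at hno
  exact hg (hPE.sharp hba.symm (Ne.symm hno.1) (Ne.symm hno.2) ha hb hc)

theorem cent_le_pairStab {g : PG} {a b : PE} (hab : a ≠ b) (ha : g • a = a) (hb : g • b = b)
    (honly : ∀ c : PE, g • c = c → c = a ∨ c = b) : C(g) ≤ pairStab a b := by
  intro x hx
  have hc : Commute x g := mem_C.1 hx
  have h1 : g • x • a = x • a := by rw [smul_smul, ← hc.eq, mul_smul, ha]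
  have h2 : g • x • b = x • b := by rw [smul_smul, ← hc.eq, mul_smul, hb]
  rcases honly _ h1 with e | e <;> rcases honly _ h2 with e' | e'
  · exact absurd (MulAction.injective x (e.trans e'.symm)) hab
  · exact .inl ⟨e, e'⟩
  · exact .inr ⟨e, e'⟩
  · exact absurd (MulAction.injective x (e.trans e'.symm)) hab

theorem cent_semisimple {g : PG} (h2 : g ^ 2 ≠ 1) {a b : PE} (hab : a ≠ b) (ha : g • a = a)
    (hb : g • b = b) : C(g) = stabilizer PG a ⊓ stabilizer PG b := by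
  have hPE : P1Like p PG PE := p1Like_ext
  have hg : g ≠ 1 := fun e => h2 (by rw [e, one_pow])
  have honly : ∀ c : PE, g • c = c → c = a ∨ c = b := fun c hc => by
    by_contra hno
    push Not at hno
    exact hg (hPE.sharp hab (Ne.symm hno.1) (Ne.symm hno.2) ha hb hc)
  refine le_antisymm (fun x hx => ?_) fun x hx => ?_
  · rcases cent_le_pairStab hab ha hb honly hx with ⟨xa, xb⟩ | ⟨xa, xb⟩
    · exact ⟨xa, xb⟩
    exfalso
    have hc : Commute x g := mem_C.1 hx
    have hxx : x * x = 1 := hPE.swap_sq hab xa xb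
    have hx1 : x ≠ 1 := fun e => hab (by rw [e, one_smul] at xa; exact xa)
    obtain ⟨c, hxc⟩ := exists_fix_ext (p := p) x
    have hgc : x • g • c = g • c := by rw [smul_smul, hc.eq, mul_smul, hxc]
    have hfix : g • c = c → False := fun e => by
      rcases honly c e with rfl | rfl
      · exact hab (hxc.symm.trans xa)
      · exact hab (xb.symm.trans hxc)
    by_cases hxp : x ^ p = 1
    · exact hfix (hPE.unique_fix hx1 hxp hgc hxc)
    obtain ⟨c', hcc, hxc'⟩ := hPE.exists_other hxp hxc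
    have honly' : ∀ e : PE, x • e = e → e = c ∨ e = c' := fun e he => by
      by_contra hno
      push Not at hno
      exact hx1 (hPE.sharp hcc.symm (Ne.symm hno.1) (Ne.symm hno.2) hxc hxc' he)
    rcases honly' _ hgc with e | e
    · exact hfix e
    rcases honly' _ (show x • g • c' = g • c' by rw [smul_smul, hc.eq, mul_smul, hxc']) with e' | e'
    · exact h2 (by rw [sq]; exact hPE.swap_sq hcc.symm e e')
    · exact hcc (MulAction.injective g (e'.trans e.symm))
  · haveI := hPE.two_cyclic hab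
    letI : CommGroup ↥(stabilizer PG a ⊓ stabilizer PG b) := IsCyclic.commGroup
    exact mem_C.2 (congrArg Subtype.val (mul_comm (⟨x, hx⟩ : ↥(stabilizer PG a ⊓ stabilizer PG b))
      ⟨g, ha, hb⟩))

theorem cent_involution {g : PG} (h2 : g ^ 2 = 1) {a b : PE} (hab : a ≠ b) (ha : g • a = a)
    (hb : g • b = b) (honly : ∀ c : PE, g • c = c → c = a ∨ c = b) : C(g) = pairStab a b := by
  have hPE : P1Like p PG PE := p1Like_ext
  refine le_antisymm (cent_le_pairStab hab ha hb honly) ?_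
  rintro x (⟨xa, xb⟩ | ⟨xa, xb⟩)
  · haveI := hPE.two_cyclic hab
    letI : CommGroup ↥(stabilizer PG a ⊓ stabilizer PG b) := IsCyclic.commGroup
    exact mem_C.2 (congrArg Subtype.val (mul_comm (⟨x, xa, xb⟩ : ↥(stabilizer PG a ⊓ stabilizer PG b))
      ⟨g, ha, hb⟩))
  · have h1 : x * x = 1 := hPE.swap_sq hab xa xb
    have h3 : x * g * (x * g) = 1 :=
      hPE.swap_sq hab (by rw [mul_smul, ha, xa]) (by rw [mul_smul, hb, xb])
    have hxi : x⁻¹ = x := inv_eq_of_mul_eq_one_left h1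
    have hgi : g⁻¹ = g := inv_eq_of_mul_eq_one_left (by rw [← sq, h2])
    refine mem_C.2 ?_
    show x * g = g * x
    rw [eq_inv_of_mul_eq_one_left h3, _root_.mul_inv_rev, hxi, hgi]

/-- The three kinds of elements of `PSL₂(q)`. -/
theorem cent_cases (h4 : 4 ≤ Nat.card F) {g : PG} (hgL : g ∈ pslRange F) (hg : g ≠ 1) :
    Nat.card ↥(C(g) ⊓ pslRange F) = Nat.card F ∨
    (g ^ 2 ≠ 1 ∧
      ∃ a : PE, Nat.card ↥(C(g) ⊓ pslRange F) = torusCard (F := F) a / Nat.gcd 2 (Nat.card F - 1)) ∨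
    (∃ a : PE, ∃ r w : PG, r ∈ pslRange F ∧ w ∈ pslRange F ∧ w ∉ Subgroup.zpowers r ∧
      g ^ 2 = 1 ∧ g ∈ Subgroup.zpowers r ∧ w * r * w⁻¹ = r⁻¹ ∧ w ∈ C(g) ∧ r ∈ C(g) ∧
      orderOf r = torusCard (F := F) a / Nat.gcd 2 (Nat.card F - 1) ∧
      Nat.card ↥(C(g) ⊓ pslRange F) = 2 * orderOf r) := by
  have hPE : P1Like p PG PE := p1Like_ext
  by_cases hp : g ^ p = 1
  · exact .inl (card_cent_unip p hg hp)
  obtain ⟨a, b, hgood, ha, hb, honly⟩ := exists_two_fixed hp
  have hab := hgood.1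
  obtain ⟨r, w, hrL, hwL, hra, hrb, hwa, hwb, hro, hzp, hcard, -⟩ := torus_psl hgood (fun _ => by omega)
  refine .inr ?_
  by_cases h2 : g ^ 2 = 1
  · refine .inr ⟨a, r, w, hrL, hwL, fun hw => ?_, h2, ?_, ?_, ?_, ?_, hro, ?_⟩
    · obtain ⟨n, rfl⟩ := hw
      exact hab (((stabilizer PG a).zpow_mem hra n).symm.trans hwa)
    · rw [← hzp]
      exact ⟨⟨ha, hb⟩, hgL⟩
    · have hww := hPE.swap_sq hab hwa hwb
      have h := hPE.swap_sq (g := w * r) hab (by rw [mul_smul, hra, hwa]) (by rw [mul_smul, hrb, hwb])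
      calc w * r * w⁻¹ = w * r * (w * r) * (r⁻¹ * (w⁻¹ * w⁻¹)) := by group
        _ = r⁻¹ := by rw [h, ← _root_.mul_inv_rev, hww, inv_one, one_mul, mul_one]
    · rw [cent_involution h2 hab ha hb honly]
      exact .inr ⟨hwa, hwb⟩
    · rw [cent_involution h2 hab ha hb honly]
      exact .inl ⟨hra, hrb⟩
    · rw [cent_involution h2 hab ha hb honly, hcard]
  · exact .inl ⟨h2, a, by rw [cent_semisimple h2 hab ha hb, hzp, Nat.card_zpowers, hro]⟩

theorem exists_nonrat : ∃ a : PE, ¬ IsRat a := by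
  by_contra hno
  push Not at hno
  have h1 : Nat.card PE ≤ Nat.card (ℙ F (Fin 2 → F)) :=
    Nat.card_le_card_of_surjective (embP (F := F) p) fun a => hno a
  rw [card_pline_ext, card_proj_line] at h1
  have := Finite.one_lt_card (α := F)
  nlinarith

theorem exists_cyclic {a b : PE} (hgood : GoodPair a b) (h4 : 4 ≤ Nat.card F)
    (h3 : 3 ≤ torusCard (F := F) a / Nat.gcd 2 (Nat.card F - 1)) :
    ∃ r ∈ pslRange F, C(r) ⊓ pslRange F = Subgroup.zpowers r ∧
      orderOf r = torusCard (F := F) a / Nat.gcd 2 (Nat.card F - 1) := by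
  obtain ⟨r, w, hrL, -, hra, hrb, -, -, hro, hzp, -⟩ := torus_psl hgood (fun _ => by omega)
  have h2 : r ^ 2 ≠ 1 := fun e => by
    have := Nat.le_of_dvd two_pos (orderOf_dvd_of_pow_eq_one e)
    omega
  exact ⟨r, hrL, by rw [cent_semisimple h2 hgood.1 hra hrb, hzp], hro⟩

end PGL

section PSL

variable {F : Type*} [Field F] [Fintype F]

local notation "L" => Matrix.ProjectiveSpecialLinearGroup (Fin 2) F
local notation "PG" => Matrix.ProjGenLinGroup (Fin 2) F
local notation "ι" => ProjectiveSpecialLinearGroup.toPGL (n := Fin 2) (R := F)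
local notation "C[" u "]" => Subgroup.centralizer ({u} : Set L)

theorem map_cent (u : L) :
    (C[u]).map ι = Subgroup.centralizer ({ι u} : Set PG) ⊓ pslRange F := by
  ext x
  constructor
  · rintro ⟨c, hc, rfl⟩
    exact ⟨mem_C.2 ((mem_C.1 hc).map ι), c, rfl⟩
  · rintro ⟨hx, c, rfl⟩
    refine ⟨c, mem_C.2 (ProjectiveSpecialLinearGroup.toPGL_injective ?_), rfl⟩
    rw [map_mul, map_mul]
    exact (mem_C.1 hx).eq

theorem card_cent (u : L) : Nat.card ↥(C[u]) =
    Nat.card ↥(Subgroup.centralizer ({ι u} : Set PG) ⊓ pslRange F) := by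
  rw [← map_cent, Subgroup.card_map_of_injective ProjectiveSpecialLinearGroup.toPGL_injective]

theorem exists_par (hq : (2 ∣ Fintype.card F ∧ 2 < Fintype.card F) ∨
    (¬ 2 ∣ Fintype.card F ∧ 7 ≤ Fintype.card F)) :
    ∃ p f d h k : ℕ, CharP F p ∧ Par p f (Nat.card F) d h k ∧ d = Nat.gcd 2 (Nat.card F - 1) := by
  obtain ⟨p, hpc⟩ := CharP.exists F
  obtain ⟨n, hp, hn⟩ := FiniteField.card F p
  rw [← Nat.card_eq_fintype_card] at hq hn
  generalize hQ : Nat.card F = q at hq hn ⊢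
  rcases hq with ⟨he, hlt⟩ | ⟨ho, h7⟩
  · obtain rfl : p = 2 := ((Nat.prime_dvd_prime_iff_eq Nat.prime_two hp).1
      (Nat.prime_two.dvd_of_dvd_pow (hn ▸ he))).symm
    refine ⟨2, n, 1, q - 1, q + 1, hpc, ⟨hp, hn, n.pos, by omega, by omega,
      .inl ⟨rfl, rfl, by omega, rfl⟩⟩, ?_⟩
    exact Eq.symm (Nat.coprime_two_left.2 ⟨(q - 2) / 2, by omega⟩ : Nat.gcd 2 (q - 1) = 1)
  · have hp2 : p ≠ 2 := by
      rintro rfl
      exact ho (hn ▸ dvd_pow_self 2 n.pos.ne')
    obtain ⟨j, rfl⟩ : Odd q := Nat.not_even_iff_odd.1 fun e => ho (even_iff_two_dvd.1 e)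
    refine ⟨p, n, 2, if Even j then j else j + 1, if Even j then j + 1 else j, hpc,
      ⟨hp, hn, n.pos, ?_, ?_, .inr ⟨rfl, hp2, ?_⟩⟩, (Nat.gcd_eq_left ⟨j, by omega⟩).symm⟩
    · split_ifs <;> omega
    · split_ifs <;> omega
    · split_ifs with hj
      · exact ⟨hj, hj.add_one, .inl ⟨rfl, by omega⟩⟩
      · exact ⟨Nat.even_add_one.2 hj, Nat.not_even_iff_odd.1 hj, .inr ⟨by omega, by omega⟩⟩

theorem exists_data (hq : (2 ∣ Fintype.card F ∧ 2 < Fintype.card F) ∨
    (¬ 2 ∣ Fintype.card F ∧ 7 ≤ Fintype.card F)) :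
    ∃ p f d h k : ℕ, Par p f (Nat.card F) d h k ∧ LData (Nat.card F) d h k L := by
  obtain ⟨p, f, d, h, k, hpc, P, hd⟩ := exists_par hq
  refine ⟨p, f, d, h, k, P, ?_⟩
  haveI := Fact.mk P.hp
  have h4 := P.four_le
  have hinj := ProjectiveSpecialLinearGroup.toPGL_injective (n := Fin 2) (R := F)
  have hcard : Nat.card L = Nat.card F * d * h * k := by
    have h1 := (pslRange F).card_mul_index
    rw [index_pslRange, ← hd, card_pgl_two rfl,
      show Nat.card ↥(pslRange F) = Nat.card L from (Nat.card_congr (MonoidHom.ofInjective hinj).toEquiv).symm] at h1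
    obtain ⟨j, hj⟩ : ∃ j, Nat.card F = j + 1 := ⟨Nat.card F - 1, by omega⟩
    refine Nat.eq_of_mul_eq_mul_right P.d_pos (h1.trans ?_)
    have h2 := P.sq_eq
    rw [hj] at h2 ⊢
    rw [Nat.add_sub_cancel]
    nlinarith
  have hidx : ∀ {u : L} {o : ℕ}, Nat.card ↥(C[u]) = o → idx u * o = Nat.card F * d * h * k := by
    intro u o ho
    rw [← hcard, ← ho]
    exact Subgroup.index_mul_card _
  have htor : ∀ a : ℙ (Ext2 F p) (Fin 2 → Ext2 F p), torusCard (F := F) a / Nat.gcd 2 (Nat.card F - 1) = h ∨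
      torusCard (F := F) a / Nat.gcd 2 (Nat.card F - 1) = k := fun a => by
    rw [← hd, torusCard]
    rcases P.tori with ⟨h1, h2⟩ | ⟨h1, h2⟩ <;> split_ifs
    exacts [.inl h1, .inr h2, .inr h1, .inl h2]
  have hcyc : ∀ o, (o = h ∨ o = k) → ∃ u : L, IsCyclic ↥(C[u]) ∧ Nat.card ↥(C[u]) = o := by
    intro o ho
    obtain ⟨a, b, hgood, hao⟩ : ∃ a b : ℙ (Ext2 F p) (Fin 2 → Ext2 F p), GoodPair a b ∧
        torusCard (F := F) a / Nat.gcd 2 (Nat.card F - 1) = o := by
      obtain ⟨a, ha⟩ := exists_nonrat (F := F) (p := p)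
      obtain ⟨b, hba, hb, hst, -⟩ := exists_conj_point ha
      have hg2 : GoodPair a b := ⟨hba.symm, .inr ⟨ha, hb, hst⟩⟩
      obtain ⟨a', b', hg1, hra⟩ := exists_goodPair (F := F) (p := p)
      have e1 : (Nat.card F - 1) / d = torusCard (F := F) a' / Nat.gcd 2 (Nat.card F - 1) := by
        rw [← hd, torusCard, if_pos hra]
      have e2 : (Nat.card F + 1) / d = torusCard (F := F) a / Nat.gcd 2 (Nat.card F - 1) := by
        rw [← hd, torusCard, if_neg ha]
      rcases P.tori with ⟨h1, h2⟩ | ⟨h1, h2⟩ <;> rcases ho with rfl | rfl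
      exacts [⟨a', b', hg1, e1 ▸ h1⟩, ⟨a, b, hg2, e2 ▸ h2⟩, ⟨a, b, hg2, e2 ▸ h2⟩, ⟨a', b', hg1, e1 ▸ h1⟩]
    obtain ⟨r, ⟨u, rfl⟩, hcr, hro⟩ := exists_cyclic hgood h4 (by
      have := P.h3; have := P.k3; rcases ho with rfl | rfl <;> omega)
    refine ⟨u, ?_, by rw [card_cent, hcr, Nat.card_zpowers, hro, hao]⟩
    haveI : IsCyclic ↥((C[u]).map ι) := by rw [map_cent, hcr]; infer_instance
    exact isCyclic_of_surjective _ ((C[u]).equivMapOfInjective ι hinj).symm.surjective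
  have hcases : ∀ u : L, u ≠ 1 → Nat.card ↥(C[u]) = Nat.card F ∨ (u ^ 2 ≠ 1 ∧ (Nat.card ↥(C[u]) = h ∨ Nat.card ↥(C[u]) = k)) ∨
      (d = 2 ∧ Nat.card ↥(C[u]) = 2 * h ∧ ∃ r w : L, orderOf r = h ∧ w * r * w⁻¹ = r⁻¹ ∧
        r ^ (h / 2) = u ∧ Subgroup.centralizer ({u} : Set L) = Subgroup.closure {r, w}) := by
    intro u hu
    have hu' : ι u ≠ 1 := fun e => hu (hinj (e.trans (map_one ι).symm))
    rcases cent_cases (p := p) h4 ⟨u, rfl⟩ hu' with hc | ⟨hg2, a, hc⟩ |
      ⟨a, r', w', ⟨r, rfl⟩, ⟨w, rfl⟩, hwr, hu2, hur, hinv, hwC, hrC, hro, hc⟩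
    · exact .inl (by rw [card_cent, hc])
    · refine .inr (.inl ⟨fun e => hg2 (by rw [← map_pow, e, map_one]), ?_⟩)
      rcases htor a with e | e
      · exact .inl (by rw [card_cent, hc, e])
      · exact .inr (by rw [card_cent, hc, e])
    refine .inr (.inr ?_)
    rw [orderOf_injective _ hinj] at hro
    rw [← card_cent, orderOf_injective _ hinj] at hc
    have hu2' : u ^ 2 = 1 := hinj (by rw [map_pow, hu2, map_one])
    have hur' : u ∈ Subgroup.zpowers r := by
      obtain ⟨n, hn⟩ := hur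
      exact ⟨n, hinj (by rw [map_zpow]; exact hn)⟩
    have heven : 2 ∣ orderOf r := by
      have := orderOf_dvd_of_mem_zpowers hur'
      rwa [orderOf_eq_prime hu2' hu] at this
    have hrh : orderOf r = h := by
      rcases htor a with e | e
      · exact hro.trans e
      · exfalso
        rw [hro, e] at heven
        rcases P.hd with ⟨-, hp2, -, h2⟩ | ⟨-, -, -, hk, -⟩
        · have : 2 ∣ Nat.card F := by rw [P.hq, hp2]; exact dvd_pow_self 2 P.hf.ne'
          omega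
        · exact hk.not_two_dvd_nat heven
    have hd2 : d = 2 := by
      rcases P.hd with ⟨-, hp2, h1, -⟩ | ⟨hd2, -⟩
      · have : 2 ∣ Nat.card F := by rw [P.hq, hp2]; exact dvd_pow_self 2 P.hf.ne'
        rw [hrh] at heven
        omega
      · exact hd2
    refine ⟨hd2, by rw [hc, hrh], r, w, hrh, hinj (by rw [map_mul, map_mul, map_inv, map_inv]; exact hinv),
      ?_, ?_⟩
    · obtain ⟨j, rfl⟩ := mem_powers_iff_mem_zpowers.2 hur'
      have hj : h ∣ j * 2 := by rw [← hrh]; exact orderOf_dvd_of_pow_eq_one (by rw [pow_mul]; exact hu2')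
      obtain ⟨i, hi⟩ : h / 2 ∣ j := by
        rw [hrh] at heven
        obtain ⟨t, rfl⟩ := heven
        rw [Nat.mul_div_cancel_left t two_pos]
        exact (Nat.mul_dvd_mul_iff_left two_pos).1 (by rwa [mul_comm j 2] at hj)
      rw [hrh] at heven
      have hr2 : (r ^ (h / 2)) ^ 2 = 1 := by
        rw [← pow_mul, Nat.div_mul_cancel heven, ← hrh, pow_orderOf_eq_one]
      show r ^ (h / 2) = r ^ j
      rw [hi, pow_mul]
      obtain ⟨t, rfl | rfl⟩ := Nat.even_or_odd' i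
      · exact absurd (show r ^ j = 1 by rw [hi, pow_mul, pow_mul, hr2, one_pow]) hu
      · rw [pow_succ, pow_mul, hr2, one_pow, one_mul]
    · refine (Subgroup.eq_of_le_of_card_ge ((Subgroup.closure_le _).2 ?_) ?_).symm
      · rintro x (rfl | rfl)
        · exact mem_C.2 (hinj (by rw [map_mul, map_mul]; exact (mem_C.1 hrC).eq))
        · exact mem_C.2 (hinj (by rw [map_mul, map_mul]; exact (mem_C.1 hwC).eq))
      · rw [hc, hrh]
        have hrl : Subgroup.zpowers r ≤ Subgroup.closure {r, w} :=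
          Subgroup.zpowers_le.2 (Subgroup.subset_closure (Set.mem_insert _ _))
        obtain ⟨i, hi⟩ := Subgroup.card_dvd_of_le hrl
        rw [Nat.card_zpowers, hrh] at hi
        rw [hi]
        rcases i with _ | _ | i
        · have := Nat.card_pos (α := ↥(Subgroup.closure {r, w}))
          simp only [mul_zero] at hi
          omega
        · exfalso
          have e := Subgroup.eq_of_le_of_card_ge hrl (by rw [Nat.card_zpowers, hrh, hi, zero_add, mul_one])
          have hwm : w ∈ Subgroup.zpowers r := e.symm.le (Subgroup.subset_closure (by simp))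
          obtain ⟨n, hn⟩ := hwm
          exact hwr ⟨n, (map_zpow ι r n).symm.trans (congrArg ι hn)⟩
        · nlinarith
  have hq0 : 0 < Nat.card F := by omega
  have hh0 : 0 < h := by have := P.h3; omega
  have hk0 : 0 < k := by have := P.k3; omega
  refine ⟨hcard, fun u => ?_, ?_, hcyc h (.inl rfl), hcyc k (.inr rfl), fun hd2 => ?_, fun hd2 u hu => ?_⟩
  · by_cases hu : u = 1
    · exact .inl (by subst hu; exact CharApps.ClassSizes.idx_eq_one_iff.2 (one_mem _))
    rcases hcases u hu with hc | ⟨-, hc | hc⟩ | ⟨hd2, hc, -⟩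
    · exact .inr (.inl (Nat.eq_of_mul_eq_mul_right hq0 (by rw [hidx hc]; ring)))
    · exact .inr (.inr (.inr (.inl (Nat.eq_of_mul_eq_mul_right hh0 (by rw [hidx hc]; ring)))))
    · exact .inr (.inr (.inr (.inr (Nat.eq_of_mul_eq_mul_right hk0 (by rw [hidx hc]; ring)))))
    · exact .inr (.inr (.inl (Nat.eq_of_mul_eq_mul_right (Nat.mul_pos two_pos hh0)
        (by rw [hidx hc, hd2]; ring))))
  · have hne : affP (1 : Fˣ) (1 : F) ≠ 1 := fun e => one_ne_zero (affP_injective (e.trans affP_one.symm)).2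
    have hpow : affP (1 : Fˣ) (1 : F) ^ p = 1 := by
      rw [affP_one_pow, CharP.cast_eq_zero F p, zero_mul, affP_one]
    obtain ⟨u, hu⟩ := mem_pslRange_of_pow p hpow
    refine ⟨u, Nat.eq_of_mul_eq_mul_right hq0 ?_⟩
    rw [hidx (by rw [card_cent, hu, card_cent_unip p hne hpow] : Nat.card ↥(C[u]) = Nat.card F)]
    ring
  · obtain ⟨u, hcu, hco⟩ := hcyc h (.inl rfl)
    obtain ⟨g, hg⟩ := IsCyclic.exists_ofOrder_eq_natCard (α := ↥(C[u]))
    have he : Even h := by
      rcases P.hd with ⟨hd1, -⟩ | ⟨-, -, he, -⟩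
      · omega
      · exact he
    rw [hco, ← Subgroup.orderOf_coe] at hg
    obtain ⟨t, rfl⟩ := he
    have h2 : orderOf ((g : L) ^ t) = 2 := by
      rw [orderOf_pow' _ (by omega), hg, show (t + t).gcd t = t by simp, ← two_mul,
        Nat.mul_div_cancel _ (by omega)]
    have hne : (g : L) ^ t ≠ 1 := fun e => by rw [e, orderOf_one] at h2; omega
    refine ⟨(g : L) ^ t, ?_⟩
    rcases hcases _ hne with hc | ⟨hc, -⟩ | ⟨-, hc, -⟩
    · exfalso
      have : 2 ∣ Nat.card F := by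
        have := orderOf_dvd_natCard (⟨(g : L) ^ t, mem_C.2 (Commute.refl _)⟩ : C[(g : L) ^ t])
        rwa [Subgroup.orderOf_mk, h2, hc] at this
      rw [P.hq] at this
      rcases P.d_cases with ⟨h1, -⟩ | ⟨-, hp2⟩
      · omega
      · exact hp2 ((Nat.prime_dvd_prime_iff_eq Nat.prime_two P.hp).1 (Nat.prime_two.dvd_of_dvd_pow this)).symm
    · exact absurd (by have := pow_orderOf_eq_one ((g : L) ^ t); rwa [h2] at this) hc
    · exact Nat.eq_of_mul_eq_mul_right (Nat.mul_pos two_pos hh0) (by rw [hidx hc, hd2]; ring)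
  · have hu1 : u ≠ 1 := fun e => by
      subst e
      rw [CharApps.ClassSizes.idx_eq_one_iff.2 (one_mem _)] at hu
      have := Nat.le_of_dvd one_pos (dvd_of_mul_right_eq _ hu.symm)
      omega
    have hqk : 0 < Nat.card F * k := Nat.mul_pos hq0 hk0
    have hc2 : Nat.card ↥(C[u]) = 2 * h := by
      refine Nat.eq_of_mul_eq_mul_left hqk ?_
      have hi := hidx (u := u) rfl
      rw [hu, hd2] at hi
      rw [hi]
      ring
    rcases hcases u hu1 with hc | ⟨-, hc | hc⟩ | ⟨-, -, hex⟩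
    · exfalso
      rcases P.hd with ⟨h1, -⟩ | ⟨-, -, -, -, (⟨h1, -⟩ | ⟨h1, -⟩)⟩ <;> omega
    · omega
    · exfalso
      rcases P.hd with ⟨h1, -⟩ | ⟨-, -, -, hk, -⟩
      · omega
      · exact hk.not_two_dvd_nat ⟨h, by omega⟩
    · exact hex

end PSL

end CfsgLib.CsPSL
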