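import Cfsg.Agent.Lib.CsPSL.XMain
import Cfsg.Agent.Lib.PSL2.Congr
import Cfsg.Agent.Lib.Classical.PSLSimple

/-!
# Groups with the class sizes of `PSL₂(q)`
-/

set_option autoImplicit false
set_option linter.style.haveILetI false
set_option linter.unusedSectionVars false

namespace CfsgLib.CsPSL

open Subgroup CharApps.ClassSizes
open scoped commutatorElement

universe u

section Transfer

variable {G : Type u} [Group G] [Finite G]

/-- The transfer of a central element of the commutator subgroup. -/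
theorem pow_index_mem_commutator {c : G} (hc : c ∈ commutator G) (hz : c ∈ center G) (H : Subgroup G)
    (hH : c ^ H.index ∈ H) : (⟨c ^ H.index, hH⟩ : H) ∈ commutator H := by
  have key : ∀ (m : ℕ) (g₀ : G), g₀⁻¹ * c ^ m * g₀ ∈ H → g₀⁻¹ * c ^ m * g₀ = c ^ m := fun m g₀ _ => by
    rw [mul_assoc, ← (mem_center_iff.1 (pow_mem hz m) g₀), inv_mul_cancel_left]
  have h1 := MonoidHom.transfer_eq_pow (Abelianization.of : H →* Abelianization H) c key
  have h2 : MonoidHom.transfer (Abelianization.of : H →* Abelianization H) c = 1 :=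
    MonoidHom.mem_ker.1 (Abelianization.commutator_subset_ker _ hc)
  rw [h2] at h1
  exact (QuotientGroup.eq_one_iff _).1 h1.symm

theorem pow_index_eq_one {c : G} (hc : c ∈ commutator G) (hz : c ∈ center G) (H : Subgroup G)
    (hZH : center G ≤ H) (hab : ∀ a ∈ H, ∀ b ∈ H, Commute a b) : c ^ H.index = 1 := by
  have h1 := pow_index_mem_commutator hc hz H (pow_mem (hZH hz) _)
  have h2 : commutator H = ⊥ := by
    rw [commutator_eq_bot_iff_center_eq_top, eq_top_iff]
    exact fun a _ => mem_center_iff.2 fun b => Subtype.ext (hab b b.2 a a.2).eq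
  rw [h2, mem_bot] at h1
  exact congrArg Subtype.val h1

end Transfer

variable {G : Type u} [Group G] [Finite G] {L : Type*} [Group L] [Finite L]

local notation "C(" g ")" => Subgroup.centralizer ({g} : Set G)
local notation "C[" u "]" => Subgroup.centralizer ({u} : Set L)
local notation "Z" => Subgroup.center G

/-- A central extension of a cyclic group is abelian. -/
theorem comap_comm {φ : G →* L} (hker : φ.ker = Z) {K : Subgroup L} (hK : IsCyclic K) :
    ∀ a ∈ K.comap φ, ∀ b ∈ K.comap φ, Commute a b := fun a ha b hb => by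
  have hle : (φ.subgroupComap K).ker ≤ center ↥(K.comap φ) := fun x hx => mem_center_iff.2 fun y => by
    have h1 : (x : G) ∈ Z := hker ▸ (show (x : G) ∈ φ.ker from congrArg Subtype.val hx)
    exact Subtype.ext (mem_center_iff.1 h1 y)
  exact congrArg Subtype.val (commutative_of_cyclic_center_quotient (φ.subgroupComap K) hle ⟨a, ha⟩ ⟨b, hb⟩)

variable {p f q d h k : ℕ}

theorem commutator_inf_center (S : CS p f q d h k G) (D : LData q d h k L) {φ : G →* L}
    (hφ : Function.Surjective φ) (hker : φ.ker = Z) {c : G} (hc : c ∈ commutator G) (hz : c ∈ Z) : c = 1 := by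
  classical
  have P := S.par
  haveI := Fact.mk P.hp
  have hq4 := P.four_le; have hh3 := P.h3; have hk3 := P.k3; have hd0 := P.d_pos
  have hZle : ∀ K : Subgroup L, Z ≤ K.comap φ := fun K x hx => by
    show φ x ∈ K
    rw [show φ x = 1 from MonoidHom.mem_ker.1 (hker.ge hx)]
    exact one_mem K
  have hidx : ∀ {u : L} {o : ℕ}, Nat.card ↥(C[u]) = o → idx u * o = q * d * h * k := fun {u o} ho => by
    rw [← D.card, ← ho]
    exact Subgroup.index_mul_card _
  -- the torus of order `k`
  have e1 : c ^ (q * d * h) = 1 := by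
    obtain ⟨u, hu, huc⟩ := D.cyc_k
    have h1 := pow_index_eq_one hc hz _ (hZle _) (comap_comm hker hu)
    rwa [index_comap_of_surjective _ hφ, show (C[u]).index = q * d * h from
      Nat.eq_of_mul_eq_mul_right (by omega : 0 < k) (hidx huc)] at h1
  -- the other torus
  have e2 : c ^ (q * k) = 1 := by
    rcases P.d_cases with ⟨hd, -⟩ | ⟨hd, -⟩
    · obtain ⟨u, hu, huc⟩ := D.cyc_h
      have h1 := pow_index_eq_one hc hz _ (hZle _) (comap_comm hker hu)
      rwa [index_comap_of_surjective _ hφ, show (C[u]).index = q * k from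
        Nat.eq_of_mul_eq_mul_right (by omega : 0 < h) ((hidx huc).trans (by rw [hd]; ring))] at h1
    obtain ⟨y, hy⟩ := S.mem_h
    have hle : C(y) ≤ (C[φ y]).comap φ := fun g hg => mem_C.2 ((mem_C.1 hg).map φ)
    have hdvd : idx (φ y) ∣ q * k := by
      rw [← hy, idx, idx, ← index_comap_of_surjective _ hφ]
      exact index_dvd_of_le hle
    have hu : idx (φ y) = q * k := by
      have one : ∀ {n m : ℕ}, n.Coprime m → n ∣ m → n = 1 := fun hc hm => hc.eq_one_of_dvd hm
      rcases D.sizes (φ y) with e | e | e | e | e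
      · exfalso
        have h1 : y ∈ Z := by
          have hcen : φ y ∈ center L := idx_eq_one_iff.1 e
          by_contra hyZ
          obtain ⟨u, hu, huc⟩ := D.cyc_k
          -- a central element lies in both tori
          obtain ⟨v, hv, hvc⟩ := D.cyc_h
          have ha : orderOf (φ y) ∣ k := by
            rw [← huc, ← Subgroup.orderOf_mk (φ y) (center_le_C u hcen)]
            exact orderOf_dvd_natCard _
          have hb : orderOf (φ y) ∣ h := by
            rw [← hvc, ← Subgroup.orderOf_mk (φ y) (center_le_C v hcen)]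
            exact orderOf_dvd_natCard _
          have h2 : φ y = 1 := orderOf_eq_one_iff.1 (Nat.eq_one_of_dvd_coprimes P.cop_hk hb ha)
          exact hyZ (hker.le (MonoidHom.mem_ker.2 h2))
        rw [idx_eq_one_iff.2 h1] at hy
        have := Nat.le_of_dvd one_pos (Dvd.intro k hy.symm)
        omega
      · exfalso
        rw [e] at hdvd
        have := one (P.cop_qh.symm.mul_right P.cop_hk) ((Dvd.intro_left d rfl).trans ((dvd_mul_right _ k).trans hdvd))
        omega
      · exact e
      · exfalso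
        rw [e, hd] at hdvd
        have := Nat.le_of_dvd (Nat.mul_pos (by omega) (by omega)) hdvd
        nlinarith
      · exfalso
        rw [e] at hdvd
        have := one (P.cop_qh.symm.mul_right P.cop_hk) ((dvd_mul_left h _).trans hdvd)
        omega
    obtain ⟨r, w, hro, hinv, hru, hCu⟩ := D.dih hd (φ y) hu
    have hCy : C(y) = (C[φ y]).comap φ := by
      refine le_antisymm hle (Subgroup.relIndex_eq_one.1 ?_)
      have h1 := relIndex_mul_index hle
      rw [index_comap_of_surjective _ hφ] at h1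
      change _ * idx (φ y) = idx y at h1
      rw [hu, hy] at h1
      exact Nat.eq_of_mul_eq_mul_right (Nat.mul_pos (by omega : 0 < q) (by omega : 0 < k))
        (h1.trans (one_mul _).symm)
    obtain ⟨a, rfl⟩ := hφ r
    obtain ⟨b, rfl⟩ := hφ w
    set H := (C[φ y]).comap φ with hH
    have haH : a ∈ H := by show φ a ∈ C[φ y]; rw [hCu]; exact subset_closure (Set.mem_insert _ _)
    have hbH : b ∈ H := by show φ b ∈ C[φ y]; rw [hCu]; exact subset_closure (by simp)
    set γ := b * a * b⁻¹ * a⁻¹ with hγ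
    set z₁ := b * a * b⁻¹ * a with hz₁
    have hz₁Z : z₁ ∈ Z := hker.le (MonoidHom.mem_ker.2 (by
      rw [hz₁, map_mul, map_mul, map_mul, map_inv, hinv, inv_mul_cancel]))
    have hzc : ∀ g : G, g * z₁ = z₁ * g := mem_center_iff.1 hz₁Z
    have hbab : b * a * b⁻¹ = z₁ * a⁻¹ := by rw [hz₁]; group
    have hca : Commute (b * a * b⁻¹) a := by
      show _ = _
      rw [hbab, mul_assoc, inv_mul_cancel, mul_one, ← mul_assoc, hzc a, mul_assoc, mul_inv_cancel, mul_one]
    have hγpow : ∀ n : ℕ, γ ^ n = b * a ^ n * b⁻¹ * (a ^ n)⁻¹ := fun n => by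
      rw [hγ, hca.inv_right.mul_pow, conj_pow, inv_pow]
    have hγh : γ ^ (h / 2) = 1 := by
      rw [hγpow]
      have hay : (y⁻¹ * a ^ (h / 2)) ∈ Z := hker.le (MonoidHom.mem_ker.2 (by
        rw [map_mul, map_inv, map_pow, hru, inv_mul_cancel]))
      have hby : Commute b y := mem_C.1 (hCy.ge hbH)
      have hb2 : Commute b (a ^ (h / 2)) := by
        have h3 : Commute b (y * (y⁻¹ * a ^ (h / 2))) := hby.mul_right (mem_center_iff.1 hay b)
        rwa [mul_inv_cancel_left] at h3
      rw [hb2.eq]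
      group
    have hφγ : φ γ = (φ a) ^ (-2 : ℤ) := by
      rw [hγ, map_mul, map_mul, map_mul, map_inv, map_inv, hinv]
      group
    have hγH : γ ∈ H := mul_mem (mul_mem (mul_mem hbH haH) (inv_mem hbH)) (inv_mem haH)
    set S' : Set H := {(⟨a, haH⟩ : H), ⟨b, hbH⟩} ∪ {x | (x : G) ∈ Z} with hS'
    have hgen : closure S' = ⊤ := by
      rw [eq_top_iff]
      rintro ⟨g, hg⟩ -
      have h1 : φ g ∈ (closure ({a, b} : Set G)).map φ := by
        rw [MonoidHom.map_closure, Set.image_pair, ← hCu]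
        exact hg
      obtain ⟨x, hx, hxg⟩ := h1
      have hcl : ∀ x, x ∈ closure ({a, b} : Set G) → ∃ hx : x ∈ H, (⟨x, hx⟩ : H) ∈ closure S' := by
        intro x hx
        induction hx using closure_induction with
        | mem x hx =>
          rcases hx with rfl | rfl
          · exact ⟨haH, subset_closure (.inl (Set.mem_insert _ _))⟩
          · exact ⟨hbH, subset_closure (.inl (Set.mem_insert_of_mem _ rfl))⟩
        | one => exact ⟨one_mem H, one_mem _⟩
        | mul x y _ _ hx hy => exact ⟨mul_mem hx.1 hy.1, mul_mem hx.2 hy.2⟩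
        | inv x _ hx => exact ⟨inv_mem hx.1, inv_mem hx.2⟩
      obtain ⟨hxH, hxS⟩ := hcl x hx
      have hzg : x⁻¹ * g ∈ Z := hker.le (MonoidHom.mem_ker.2 (by rw [map_mul, map_inv, hxg, inv_mul_cancel]))
      have h2 := mul_mem hxS (show (⟨x⁻¹ * g, mul_mem (inv_mem hxH) hg⟩ : H) ∈ closure S' from subset_closure (.inr hzg))
      rwa [show ((⟨x, hxH⟩ : H) * ⟨x⁻¹ * g, mul_mem (inv_mem hxH) hg⟩) = ⟨g, hg⟩ from
        Subtype.ext (mul_inv_cancel_left x g)] at h2
    set T := zpowers (⟨γ, hγH⟩ : H) with hT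
    have hga : a * γ * a⁻¹ = γ := by
      calc a * γ * a⁻¹ = a * (b * a * b⁻¹) * a⁻¹ * a⁻¹ := by rw [hγ]; group
        _ = γ := by rw [← hca.eq, hγ]; group
    have hgb : b * γ * b⁻¹ = γ⁻¹ := by
      calc b * γ * b⁻¹ = b * (z₁ * a⁻¹ * a⁻¹) * b⁻¹ := by rw [hγ, hbab]
        _ = z₁ * ((b * a * b⁻¹)⁻¹ * (b * a * b⁻¹)⁻¹) := by rw [← mul_assoc, ← mul_assoc, hzc b]; group
        _ = z₁ * ((z₁ * a⁻¹)⁻¹ * (z₁ * a⁻¹)⁻¹) := by rw [hbab]
        _ = z₁ * a * z₁⁻¹ * (a * z₁⁻¹) := by group
        _ = a * z₁ * z₁⁻¹ * (a * z₁⁻¹) := by rw [hzc a]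
        _ = γ⁻¹ := by rw [hγ, hbab]; group; simp only [sq, zpow_two]
    have hTn : T.Normal := by
      rw [← normalizer_eq_top_iff, eq_top_iff, ← hgen, closure_le]
      have hmove : ∀ x : H, (x * ⟨γ, hγH⟩ * x⁻¹ = ⟨γ, hγH⟩ ∨ x * ⟨γ, hγH⟩ * x⁻¹ = (⟨γ, hγH⟩ : H)⁻¹) →
          x ∈ normalizer (T : Set H) := fun x hx => by
        have hmap : T.map (MulAut.conj x).toMonoidHom = T := by
          rw [hT, MonoidHom.map_zpowers]
          rcases hx with e | e
          · exact congrArg zpowers e
          · exact (congrArg zpowers e).trans zpowers_inv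
        refine mem_normalizer_iff.2 fun g => ⟨fun hg => hmap.le ⟨g, hg, rfl⟩, fun hg => ?_⟩
        obtain ⟨g', hg', he⟩ := hmap.ge hg
        exact (MulAut.conj x).injective he ▸ hg'
      rintro x ((rfl | rfl) | hx)
      · exact hmove _ (.inl (Subtype.ext hga))
      · exact hmove _ (.inr (Subtype.ext hgb))
      · exact hmove _ (.inl (Subtype.ext (by
          show (x : G) * γ * (x : G)⁻¹ = γ
          rw [← mem_center_iff.1 hx γ, mul_inv_cancel_right])))
    have hHc : commutator H ≤ T := by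
      have hmem : ∀ s ∈ S', (QuotientGroup.mk s : H ⧸ T) ∈ center (H ⧸ T) := by
        intro s hs
        rw [mem_center_iff]
        intro t
        obtain ⟨t, rfl⟩ := QuotientGroup.mk_surjective t
        have ht : t ∈ closure S' := hgen.ge (mem_top t)
        induction ht using closure_induction with
        | one => rw [QuotientGroup.mk_one, one_mul, mul_one]
        | mul x y _ _ hx hy => rw [QuotientGroup.mk_mul, mul_assoc, hy, ← mul_assoc, hx, mul_assoc]
        | inv x _ hx =>
          rw [QuotientGroup.mk_inv]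
          exact ((show Commute (QuotientGroup.mk x : H ⧸ T) _ from hx).inv_left).eq
        | mem x hx =>
          have hcomm : ∀ {x y : H}, (x : G) ∈ Z → (QuotientGroup.mk x : H ⧸ T) * QuotientGroup.mk y =
              QuotientGroup.mk y * QuotientGroup.mk x := fun {x y} hx => by
            rw [← QuotientGroup.mk_mul, ← QuotientGroup.mk_mul]
            exact congrArg _ (Subtype.ext (mem_center_iff.1 hx y).symm)
          have hab : (QuotientGroup.mk (⟨b, hbH⟩ : H) : H ⧸ T) * QuotientGroup.mk ⟨a, haH⟩ =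
              QuotientGroup.mk ⟨a, haH⟩ * QuotientGroup.mk ⟨b, hbH⟩ := by
            have h1 : ((QuotientGroup.mk (⟨γ, hγH⟩ : H)) : H ⧸ T) = 1 :=
              (QuotientGroup.eq_one_iff _).2 (mem_zpowers _)
            rw [← QuotientGroup.mk_mul, ← QuotientGroup.mk_mul,
              show (⟨b, hbH⟩ : H) * ⟨a, haH⟩ = ⟨γ, hγH⟩ * (⟨a, haH⟩ * ⟨b, hbH⟩) from Subtype.ext (by
                show b * a = γ * (a * b); rw [hγ]; group),
              QuotientGroup.mk_mul, h1, one_mul]
          rcases hx with ((rfl | rfl) | hx)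
          · rcases hs with ((rfl | rfl) | hs)
            exacts [rfl, hab.symm, (hcomm hs).symm]
          · rcases hs with ((rfl | rfl) | hs)
            exacts [hab, rfl, (hcomm hs).symm]
          · exact hcomm hx
      have htop : center (H ⧸ T) = ⊤ := by
        rw [eq_top_iff, ← (QuotientGroup.mk' T).range_eq_top.2 (QuotientGroup.mk'_surjective T),
          MonoidHom.range_eq_map, ← hgen, MonoidHom.map_closure, closure_le]
        rintro _ ⟨s, hs, rfl⟩
        exact hmem s hs
      rw [_root_.commutator_def, commutator_le]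
      intro x _ y _
      rw [← QuotientGroup.eq_one_iff, show ((⁅x, y⁆ : H) : H ⧸ T) = ⁅(x : H ⧸ T), (y : H ⧸ T)⁆ from
        map_commutatorElement (QuotientGroup.mk' T) x y, commutatorElement_eq_one_iff_commute]
      exact mem_center_iff.1 (htop.ge (mem_top (y : H ⧸ T))) _
    have hcH : c ^ H.index ∈ H := pow_mem (hZle _ hz) _
    obtain ⟨j, hj⟩ := hHc (pow_index_mem_commutator hc hz H hcH)
    have hj' : γ ^ j = c ^ H.index := congrArg Subtype.val hj
    rw [hH, index_comap_of_surjective _ hφ] at hj'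
    change γ ^ j = c ^ idx (φ y) at hj'
    rw [hu] at hj'
    rw [← hj']
    have h1 : φ a ^ (-2 * j : ℤ) = 1 := by
      rw [_root_.zpow_mul, ← hφγ, ← map_zpow, hj', map_pow, show φ c = 1 from MonoidHom.mem_ker.1 (hker.ge hz), one_pow]
    have h2 : ((h : ℤ)) ∣ -2 * j := by rw [← hro]; exact orderOf_dvd_iff_zpow_eq_one.2 h1
    have he : 2 ∣ h := by
      rcases P.hd with ⟨e, -⟩ | ⟨-, -, he, -⟩
      · omega
      · exact he.two_dvd
    obtain ⟨t, ht⟩ := he
    obtain ⟨i, hi⟩ := h2
    have h3 : j = (t : ℤ) * (-i) := by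
      have : ((h : ℕ) : ℤ) = 2 * (t : ℤ) := by exact_mod_cast ht
      rw [this] at hi
      linarith
    rw [h3, _root_.zpow_mul, zpow_natCast, show t = h / 2 by omega, hγh, one_zpow]
  -- the Sylow `p`-subgroup
  have e3 : c ^ (d * h * k) = 1 := by
    obtain ⟨y₀, hy₀⟩ := S.mem_p
    have XD := xdata S
    obtain ⟨PX⟩ : Nonempty (Sylow p (G ⧸ Z)) := inferInstance
    set H := (PX : Subgroup (G ⧸ Z)).comap (QuotientGroup.mk' Z) with hH
    have hZH : Z ≤ H := fun x hx => by
      show QuotientGroup.mk' Z x ∈ (PX : Subgroup (G ⧸ Z))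
      rw [show QuotientGroup.mk' Z x = 1 from (QuotientGroup.eq_one_iff x).2 hx]
      exact one_mem _
    have hind : H.index = d * h * k := by
      rw [hH, index_comap_of_surjective _ (QuotientGroup.mk'_surjective Z), index_sylow XD PX]
    have hcen : ∀ x ∈ H, x ∉ Z → H ≤ C(x) := fun x hx hxZ => by
      have hx1 : QuotientGroup.mk' Z x ≠ 1 := fun e => hxZ ((QuotientGroup.eq_one_iff x).1 e)
      obtain ⟨i, hi⟩ := (IsPGroup.iff_orderOf.1 PX.2) ⟨QuotientGroup.mk' Z x, hx⟩
      rw [← Subgroup.orderOf_coe] at hi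
      change orderOf (QuotientGroup.mk' Z x) = p ^ i at hi
      obtain ⟨g, ⟨i', hi'⟩, hg⟩ := exists_lift P.hp hi
      have hgx : g⁻¹ * x ∈ Z := QuotientGroup.eq.1 hg
      have hC : C(x) = C(g) := by
        rw [← C_eq_of_mul_center (g := g) hgx, mul_inv_cancel_left]
      have hgZ : g ∉ Z := fun e => hxZ (by simpa using mul_mem e hgx)
      have hle : C(g) ≤ H := fun u hu => by
        show QuotientGroup.mk' Z u ∈ (PX : Subgroup (G ⧸ Z))
        rw [← C_eq XD hx hx1]
        exact mem_C.2 (hg ▸ (mem_C.1 hu).map (QuotientGroup.mk' Z))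
      have hrel := relIndex_mul_index hle
      rw [hind] at hrel
      change _ * (d * h * k) = idx g at hrel
      rw [idx_p S hi' hgZ] at hrel
      rw [hC]
      exact Subgroup.relIndex_eq_one.1 (Nat.eq_of_mul_eq_mul_right
        (Nat.mul_pos (Nat.mul_pos hd0 (by omega)) (by omega)) (hrel.trans (one_mul _).symm))
    rw [← hind]
    refine pow_index_eq_one hc hz H hZH fun x hx y hy => ?_
    by_cases hxZ : x ∈ Z
    · exact (mem_center_iff.1 hxZ y).symm
    · exact (mem_C.1 (hcen x hx hxZ hy)).symm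
  have o12 : orderOf c ∣ q := by
    have h1 := Nat.dvd_gcd (orderOf_dvd_of_pow_eq_one e1) (orderOf_dvd_of_pow_eq_one e2)
    rwa [mul_assoc, Nat.gcd_mul_left, (Nat.Coprime.mul_left P.cop_dk P.cop_hk).gcd_eq_one, mul_one] at h1
  exact orderOf_eq_one_iff.1 (Nat.eq_one_of_dvd_coprimes ((P.cop_qd.mul_right P.cop_qh).mul_right P.cop_qk) o12
    (orderOf_dvd_of_pow_eq_one e3))

section Final

variable {F : Type*} [Field F] [Fintype F]

local notation "LF" => Matrix.ProjectiveSpecialLinearGroup (Fin 2) F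

theorem exists_quot_iso (hq : (2 ∣ Fintype.card F ∧ 2 < Fintype.card F) ∨
      (¬ 2 ∣ Fintype.card F ∧ 7 ≤ Fintype.card F))
    (hr : Set.range (fun g : G => (Subgroup.centralizer ({g} : Set G)).index) =
      Set.range (fun g : LF => (Subgroup.centralizer ({g} : Set LF)).index)) :
    Nonempty (G ⧸ Z ≃* LF) ∧ ∃ p f d h k : ℕ, CS p f (Nat.card F) d h k G ∧ LData (Nat.card F) d h k LF := by
  obtain ⟨p, f, d, h, k, P, D⟩ := exists_data hq
  haveI := Fact.mk P.hp
  have S := cs_of_range P D hr
  obtain ⟨K, hK, hK', hKc, ⟨e⟩⟩ := exists_iso (xdata S)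
  obtain ⟨e'⟩ := PSL2.nonempty_psl_congr (n := Fin 2)
    (FiniteField.ringEquivOfCardEq (by rw [← Nat.card_eq_fintype_card, ← Nat.card_eq_fintype_card, hKc] :
      Fintype.card K = Fintype.card F))
  exact ⟨⟨e.trans e'⟩, p, f, d, h, k, S, D⟩

theorem direct_product (hq : (2 ∣ Fintype.card F ∧ 2 < Fintype.card F) ∨
      (¬ 2 ∣ Fintype.card F ∧ 7 ≤ Fintype.card F))
    (hr : Set.range (fun g : G => (Subgroup.centralizer ({g} : Set G)).index) =
      Set.range (fun g : LF => (Subgroup.centralizer ({g} : Set LF)).index)) :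
    ∃ N A : Subgroup G, N.Normal ∧ A ≤ Subgroup.center G ∧ N ⊓ A = ⊥ ∧ N ⊔ A = ⊤ ∧
      Nonempty (N ≃* LF) := by
  obtain ⟨⟨e⟩, p, f, d, h, k, S, D⟩ := exists_quot_iso hq hr
  set φ : G →* LF := e.toMonoidHom.comp (QuotientGroup.mk' Z) with hφdef
  have hφ : Function.Surjective φ := e.surjective.comp (QuotientGroup.mk'_surjective Z)
  have hker : φ.ker = Z := by
    ext x
    rw [MonoidHom.mem_ker, hφdef, MonoidHom.comp_apply, MulEquiv.coe_toMonoidHom, EmbeddingLike.map_eq_one_iff]
    exact QuotientGroup.eq_one_iff x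
  have hperf : commutator LF = ⊤ := by
    haveI : IsSimpleGroup LF := Classical.isSimpleGroup_PSL_fin 2 le_rfl fun _ => S.par.four_le
    refine (Subgroup.Normal.eq_bot_or_eq_top inferInstance).resolve_left fun hb => ?_
    rw [commutator_eq_bot_iff_center_eq_top] at hb
    obtain ⟨u, hu⟩ := D.mem_p
    rw [idx_eq_one_iff.2 (hb.ge (mem_top u))] at hu
    have := Nat.le_of_dvd one_pos (Dvd.intro k (hu.symm))
    have := Nat.le_of_dvd one_pos ((dvd_mul_left h d).trans (Dvd.intro k hu.symm))
    have := S.par.h3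
    omega
  have hsup : commutator G ⊔ Z = ⊤ := by
    rw [← hker, ← comap_map_eq, show (commutator G).map φ = ⊤ from by
      rw [_root_.commutator_def, map_commutator, map_top_of_surjective φ hφ, ← _root_.commutator_def, hperf], comap_top]
  have hinf : commutator G ⊓ Z = ⊥ := by
    rw [eq_bot_iff]
    exact fun c hc => mem_bot.2 (commutator_inf_center S D hφ hker hc.1 hc.2)
  refine ⟨commutator G, Z, inferInstance, le_rfl, hinf, hsup,
    ⟨MulEquiv.ofBijective (φ.comp (commutator G).subtype) ⟨?_, fun u => ?_⟩⟩⟩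
  · rw [← MonoidHom.ker_eq_bot_iff, eq_bot_iff]
    intro x hx
    exact mem_bot.2 (Subtype.ext (mem_bot.1 (hinf.le ⟨x.2, hker.le (MonoidHom.mem_ker.2 hx)⟩)))
  · obtain ⟨g, rfl⟩ := hφ u
    obtain ⟨n, hn, z, hzZ, rfl⟩ := mem_sup_of_normal_right.1 (hsup.ge (mem_top g))
    exact ⟨⟨n, hn⟩, by
      show φ n = φ (n * z)
      rw [map_mul, MonoidHom.mem_ker.1 (hker.ge hzZ), mul_one]⟩

end Final

end CfsgLib.CsPSL
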