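import Cfsg.Agent.Lib.FT.OddOrderTheorem
import Cfsg.Agent.Lib.Base.Cores
import Cfsg.Agent.Lib.Base.MinimalNormal

/-!
# Local subgroups are `p`-closed when `p`-elements have `p`-groups as centralisers
-/

set_option autoImplicit false
set_option linter.style.haveILetI false
set_option linter.unusedSectionVars false

namespace CfsgLib.CsPSL

open Subgroup Cfsg

universe u

variable {M : Type u} [Group M] [Finite M] {p : ℕ} [hp : Fact p.Prime]

/-- No element of order `p` normalises a nontrivial `p'`-subgroup, in the presence of a normal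
`p`-subgroup. -/
theorem no_norm (hexp : ∀ x : M, (∃ i, x ^ p ^ i = 1) → x ^ p = 1)
    (hfree : ∀ x y : M, x ^ p = 1 → x ≠ 1 → Commute x y → ¬ p ∣ orderOf y → y = 1)
    {V R : Subgroup M} [V.Normal] (hVp : IsPGroup p V) (hVc : ∀ a ∈ V, ∀ b ∈ V, Commute a b)
    (hV : V ≠ ⊥) {g : M} (hg : g ^ p = 1) (hg1 : g ≠ 1) (hR : R ≠ ⊥) (hRp : ¬ p ∣ Nat.card R)
    (hgR : g ∈ normalizer (R : Set M)) : False := by
  classical
  haveI := Fintype.ofFinite R
  letI : CommGroup V := { (inferInstance : Group V) with mul_comm := fun a b => Subtype.ext (hVc a a.2 b b.2) }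
  set c : M →* MulAut V := MulAut.conjNormal with hc
  obtain ⟨w, hwV, hw1⟩ := (Subgroup.ne_bot_iff_exists_ne_one.1 hV).elim fun a ha => (⟨a.1, a.2, fun e => ha (Subtype.ext e)⟩ :
    ∃ w, w ∈ V ∧ w ≠ 1)
  set v : V := ⟨w, hwV⟩ with hv
  have hord : ∀ r ∈ R, ¬ p ∣ orderOf r := fun r hr h =>
    hRp (h.trans (by rw [← Subgroup.orderOf_mk r hr]; exact orderOf_dvd_natCard _))
  -- the sum over a conjugate of `⟨g⟩` vanishes
  have hrow : ∀ a : M, a ^ p = 1 → ∏ i ∈ Finset.range p, c (a ^ i) v = 1 := by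
    intro a ha
    have hpow : ∀ n : ℕ, (w * a) ^ n = ((∏ i ∈ Finset.range n, c (a ^ i) v : V) : M) * a ^ n := by
      intro n
      induction n with
      | zero => simp
      | succ n ih =>
        rw [pow_succ, ih, Finset.prod_range_succ, Subgroup.coe_mul, MulAut.conjNormal_apply, pow_succ]
        show _ = _ * (a ^ n * w * (a ^ n)⁻¹) * (a ^ n * a)
        group
    have hA : IsPGroup p ↥(zpowers a) := fun ⟨x, hx⟩ => ⟨1, Subtype.ext (by
      obtain ⟨n, rfl⟩ := hx
      show (a ^ n) ^ p ^ 1 = 1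
      rw [pow_one, ← zpow_natCast, ← zpow_mul, mul_comm, zpow_mul, zpow_natCast, ha, one_zpow])⟩
    obtain ⟨i, hi⟩ := (hVp.to_sup_of_normal_left hA) ⟨w * a,
      mul_mem (mem_sup_left hwV) (mem_sup_right (mem_zpowers a))⟩
    have h1 := hexp (w * a) ⟨i, congrArg Subtype.val hi⟩
    rw [hpow, ha, mul_one] at h1
    exact Subtype.ext h1
  have hpos : 0 < p := hp.out.pos
  have hcol : ∀ i ∈ Finset.range p, i ≠ 0 → ∏ z : R, c ((z : M) * g ^ i * (z : M)⁻¹) v = 1 := by
    intro i hi hi0
    have hgi : g ^ i ∈ normalizer (R : Set M) := pow_mem hgR i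
    let ψ : R → R := fun z => ⟨(z : M) * (g ^ i * (z : M)⁻¹ * (g ^ i)⁻¹),
      mul_mem z.2 ((mem_normalizer_iff.1 hgi _).1 (inv_mem z.2))⟩
    have hψ : Function.Injective ψ := fun z z' e => by
      have e' : (z : M) * (g ^ i * (z : M)⁻¹ * (g ^ i)⁻¹) = z' * (g ^ i * (z' : M)⁻¹ * (g ^ i)⁻¹) :=
        congrArg Subtype.val e
      have hne : g ^ i ≠ 1 := fun e0 => by
        have := Nat.le_of_dvd (Nat.pos_of_ne_zero hi0) ((orderOf_eq_prime hg hg1) ▸ orderOf_dvd_of_pow_eq_one e0)
        rw [Finset.mem_range] at hi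
        omega
      have hcomm : Commute (g ^ i) ((z' : M)⁻¹ * z) := by
        show g ^ i * ((z' : M)⁻¹ * z) = (z' : M)⁻¹ * z * g ^ i
        calc g ^ i * ((z' : M)⁻¹ * z)
            = (z' : M)⁻¹ * ((z' : M) * (g ^ i * (z' : M)⁻¹ * (g ^ i)⁻¹)) * g ^ i * z := by group
          _ = (z' : M)⁻¹ * ((z : M) * (g ^ i * (z : M)⁻¹ * (g ^ i)⁻¹)) * g ^ i * z := by rw [e']
          _ = _ := by group
      exact Subtype.ext (inv_mul_eq_one.1 (hfree _ _ (by rw [← pow_mul, mul_comm, pow_mul, hg, one_pow]) hne hcomm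
        (hord _ (mul_mem (inv_mem z'.2) z.2)))).symm
    calc ∏ z : R, c ((z : M) * g ^ i * (z : M)⁻¹) v
        = ∏ z : R, c (ψ z : M) (c (g ^ i) v) := Finset.prod_congr rfl fun z _ => by
          rw [← MulAut.mul_apply, ← map_mul]
          congr 2
          show _ = (z : M) * (g ^ i * (z : M)⁻¹ * (g ^ i)⁻¹) * g ^ i
          group
      _ = ∏ y : R, c (y : M) (c (g ^ i) v) :=
          (Function.Bijective.prod_comp ((Finite.injective_iff_bijective).1 hψ) fun y => c (y : M) (c (g ^ i) v))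
      _ = 1 := by
          obtain ⟨⟨y₀, hy₀⟩, hne⟩ := Subgroup.ne_bot_iff_exists_ne_one.1 hR
          set T := ∏ y : R, c (y : M) (c (g ^ i) v) with hT
          have hfix : c y₀ T = T := by
            rw [hT, map_prod]
            exact Fintype.prod_bijective (fun y => ⟨y₀, hy₀⟩ * y) (Group.mulLeft_bijective _) _ _ fun y => by
              rw [Subgroup.coe_mul, map_mul, MulAut.mul_apply]
          by_contra hT1
          have hTp : ((T : V) : M) ^ p = 1 := hexp _ (by
            obtain ⟨j, hj⟩ := hVp T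
            exact ⟨j, congrArg Subtype.val hj⟩)
          refine hne (Subtype.ext (hfree _ y₀ hTp (fun e => hT1 (Subtype.ext e)) ?_ (hord _ hy₀)))
          have h2 := congrArg Subtype.val hfix
          rw [hc, MulAut.conjNormal_apply] at h2
          exact ((mul_inv_eq_iff_eq_mul.1 h2).symm : _)
  have hprod : ∏ z : R, ∏ i ∈ Finset.range p, c ((z : M) * g ^ i * (z : M)⁻¹) v = 1 :=
    Finset.prod_eq_one fun z _ => by
      rw [← hrow ((z : M) * g * (z : M)⁻¹) (by rw [conj_pow, hg, mul_one, mul_inv_cancel])]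
      exact Finset.prod_congr rfl fun i _ => by rw [conj_pow]
  rw [Finset.prod_comm, Finset.prod_eq_single_of_mem 0 (Finset.mem_range.2 hpos) hcol] at hprod
  simp only [pow_zero, mul_one, mul_inv_cancel, map_one, MulAut.one_apply, Finset.prod_const,
    Finset.card_univ] at hprod
  have h1 : orderOf v ∣ Fintype.card R := orderOf_dvd_of_pow_eq_one hprod
  rw [← Subgroup.orderOf_coe, orderOf_eq_prime (hexp w (by
    obtain ⟨j, hj⟩ := hVp v
    exact ⟨j, congrArg Subtype.val hj⟩)) hw1, ← Nat.card_eq_fintype_card] at h1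
  exact hRp h1

/-- With a nontrivial normal `p`-subgroup, every element of `p`-power order lies in the `p`-core. -/
theorem mem_pCore (hp2 : p ≠ 2) (hexp : ∀ x : M, (∃ i, x ^ p ^ i = 1) → x ^ p = 1)
    (hfree : ∀ x y : M, x ^ p = 1 → x ≠ 1 → Commute x y → ¬ p ∣ orderOf y → y = 1)
    {D : Subgroup M} [D.Normal] (hD : IsPGroup p D) (hD1 : D ≠ ⊥) {g : M} (hgi : ∃ i, g ^ p ^ i = 1) :
    g ∈ pCore p M := by
  classical
  by_contra hgO
  have hg := hexp g hgi
  have hg1 : g ≠ 1 := fun e => hgO (e ▸ one_mem _)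
  set O := pCore p M with hO
  haveI : O.Normal := Subgroup.normal_of_characteristic _
  have hOp : IsPGroup p O := Base.isPGroup_pCore p M
  have hO1 : O ≠ ⊥ := fun e => hD1 (le_bot_iff.1 (e ▸ Base.le_pCore hD))
  haveI : Nontrivial O := (Subgroup.nontrivial_iff_ne_bot _).2 hO1
  set V := (center O).map O.subtype with hV
  haveI hVn : V.Normal := ConjAct.normal_of_characteristic_of_normal
  have hVO : V ≤ O := Subgroup.map_subtype_le _
  have hV1 : V ≠ ⊥ := by
    haveI := hOp.center_nontrivial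
    rw [hV, ne_eq, Subgroup.map_eq_bot_iff_of_injective _ O.subtype_injective, ← ne_eq,
      ← Subgroup.nontrivial_iff_ne_bot]
    infer_instance
  have hVc : ∀ a ∈ V, ∀ b ∈ V, Commute a b := by
    rintro _ ⟨a, ha, rfl⟩ b hb
    exact congrArg Subtype.val (Subgroup.mem_center_iff.1 ha ⟨b, hVO hb⟩).symm
  by_cases hodd : Odd (Nat.card M)
  swap
  · obtain ⟨t, ht⟩ := exists_prime_orderOf_dvd_card' 2 (G := M) (even_iff_two_dvd.1 (Nat.not_odd_iff_even.1 hodd))
    have ht1 : t ≠ 1 := fun e => by rw [e, orderOf_one] at ht; omega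
    have ht2 : t * t = 1 := by rw [← sq, ← ht, pow_orderOf_eq_one]
    have htp : ∀ s : M, orderOf s = 2 → ¬ p ∣ orderOf s := fun s hs h => by
      rw [hs] at h
      exact hp2 ((Nat.prime_dvd_prime_iff_eq hp.out Nat.prime_two).1 h)
    -- involutions invert the core
    have hinv : ∀ s : M, orderOf s = 2 → ∀ x ∈ O, s * x * s⁻¹ = x⁻¹ := by
      intro s hs x hx
      have hs1 : s ≠ 1 := fun e => by rw [e, orderOf_one] at hs; omega
      have hfix : MonoidHom.FixedPointFree (MulAut.conjNormal (H := O) s).toMonoidHom := by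
        intro y hy
        by_contra hy1
        refine hs1 (hfree (y : M) s (hexp _ ?_) (fun e => hy1 (Subtype.ext e)) ?_ (htp s hs))
        · obtain ⟨j, hj⟩ := hOp y
          exact ⟨j, congrArg Subtype.val hj⟩
        · have h2 := congrArg Subtype.val hy
          rw [MulEquiv.coe_toMonoidHom, MulAut.conjNormal_apply] at h2
          exact ((mul_inv_eq_iff_eq_mul.1 h2).symm : _)
      have hs2 : s * s = 1 := by rw [← sq, ← hs, pow_orderOf_eq_one]
      have h3 := congrFun (hfix.coe_eq_inv_of_involutive fun y => Subtype.ext (by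
        rw [MulEquiv.coe_toMonoidHom, MulAut.conjNormal_apply, MulAut.conjNormal_apply]
        calc s * (s * (y : M) * s⁻¹) * s⁻¹ = (s * s) * y * (s * s)⁻¹ := by group
          _ = y := by rw [hs2, one_mul, inv_one, mul_one])) ⟨x, hx⟩
      have h4 := congrArg Subtype.val h3
      rw [MulEquiv.coe_toMonoidHom, MulAut.conjNormal_apply] at h4
      exact h4
    have hOc : ∀ a ∈ O, ∀ b ∈ O, Commute a b := fun a ha b hb => by
      have h1 := hinv t ht _ (mul_mem ha hb)
      rw [show t * (a * b) * t⁻¹ = t * a * t⁻¹ * (t * b * t⁻¹) by group, hinv t ht a ha, hinv t ht b hb,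
        ← _root_.mul_inv_rev, inv_inj] at h1
      exact h1.symm
    -- the centraliser of the core is the core
    have hC : centralizer (O : Set M) ≤ O := by
      refine Base.le_pCore (IsPGroup.iff_orderOf.2 fun ⟨y, hy⟩ => ?_)
      rw [Subgroup.orderOf_mk]
      obtain ⟨⟨x, hxO⟩, hx1⟩ := exists_ne (1 : O)
      have hxp := hexp x (by obtain ⟨j, hj⟩ := hOp ⟨x, hxO⟩; exact ⟨j, congrArg Subtype.val hj⟩)
      obtain ⟨a, b, hab, hb⟩ : ∃ a b : ℕ, orderOf y = p ^ a * b ∧ ¬ p ∣ b := by
        obtain ⟨a, b, hb, he⟩ := Nat.exists_eq_pow_mul_and_not_dvd (orderOf_pos y).ne' p hp.out.ne_one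
        exact ⟨a, b, he, hb⟩
      have h1 : y ^ (p ^ a) = 1 := by
        refine hfree x _ hxp (fun e => hx1 (Subtype.ext e))
          ((show Commute x y from Subgroup.mem_centralizer_iff.1 hy x hxO).pow_right _) ?_
        rw [orderOf_pow' y (pow_ne_zero _ hp.out.ne_zero), hab, Nat.gcd_eq_right (dvd_mul_right _ _),
          Nat.mul_div_cancel_left _ (pow_pos hp.out.pos a)]
        exact hb
      obtain ⟨j, -, hj⟩ := (Nat.dvd_prime_pow hp.out).1 (orderOf_dvd_of_pow_eq_one h1)
      exact ⟨j, hj⟩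
    -- the involution is central modulo the core
    set s := g * t * g⁻¹ with hs
    have hso : orderOf s = 2 := by
      rw [hs, ← ht]; exact orderOf_injective (MulAut.conj g).toMonoidHom (MulAut.conj g).injective t
    have hst : s * t ∈ O := hC (Subgroup.mem_centralizer_iff.2 fun x hx => by
      have h1 := hinv s hso x⁻¹ (inv_mem hx)
      have h2 := hinv t ht x hx
      rw [inv_inv] at h1
      calc x * (s * t) = (s * x⁻¹ * s⁻¹) * (s * t) := by rw [h1]
        _ = s * t * (t⁻¹ * x⁻¹ * t) := by group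
        _ = s * t * x := by
          congr 1
          rw [inv_eq_of_mul_eq_one_left ht2]
          rw [show t * x⁻¹ * t = (t⁻¹ * x * t⁻¹)⁻¹ by group, inv_eq_of_mul_eq_one_left ht2]
          rw [inv_eq_of_mul_eq_one_left ht2] at h2
          rw [h2, inv_inv])
    obtain ⟨a, haO, ha⟩ : ∃ a ∈ O, a * a = s * t := by
      have hco : (2 : ℕ).Coprime (orderOf (s * t)) := by
        obtain ⟨j, hj⟩ := (IsPGroup.iff_orderOf.1 hOp) ⟨s * t, hst⟩
        rw [Subgroup.orderOf_mk] at hj
        rw [hj]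
        exact Nat.Coprime.pow_right _ ((Nat.coprime_primes Nat.prime_two hp.out).2 hp2.symm)
      obtain ⟨m, hm⟩ := exists_pow_eq_self_of_coprime hco
      exact ⟨(s * t) ^ m, pow_mem hst m, by rw [← sq, ← pow_mul, mul_comm, pow_mul, hm]⟩
    have hat : a * t * a⁻¹ = s := by
      have h1 := hinv t ht a⁻¹ (inv_mem haO)
      rw [inv_inv] at h1
      calc a * t * a⁻¹ = a * (t * a⁻¹ * t⁻¹) * t := by group
        _ = s * t * t := by rw [h1, ha]
        _ = s := by rw [mul_assoc, ht2, mul_one]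
    have hcomm : Commute (a⁻¹ * g) t := by
      show a⁻¹ * g * t = t * (a⁻¹ * g)
      calc a⁻¹ * g * t = a⁻¹ * s * g := by rw [hs]; group
        _ = t * (a⁻¹ * g) := by rw [← hat]; group
    have hgp : IsPGroup p ↥(zpowers g) := fun ⟨x, hx⟩ => ⟨1, Subtype.ext (by
      obtain ⟨n, rfl⟩ := hx
      show (g ^ n) ^ p ^ 1 = 1
      rw [pow_one, ← zpow_natCast, ← zpow_mul, mul_comm, zpow_mul, zpow_natCast, hg, one_zpow])⟩
    obtain ⟨j, hj⟩ := (hOp.to_sup_of_normal_left hgp) ⟨a⁻¹ * g,
      mul_mem (mem_sup_left (inv_mem haO)) (mem_sup_right (mem_zpowers g))⟩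
    have hne : a⁻¹ * g ≠ 1 := fun e => hgO (by rw [← inv_mul_eq_one.1 e]; exact haO)
    exact ht1 (hfree _ t (hexp _ ⟨j, congrArg Subtype.val hj⟩) hne hcomm (htp t ht))
  · haveI : Group.IsSolvable M := FT.isSolvable_of_odd hodd
    have hne : (QuotientGroup.mk g : M ⧸ O) ≠ 1 := fun e => hgO ((QuotientGroup.eq_one_iff g).1 e)
    haveI : Nontrivial (M ⧸ O) := ⟨⟨_, _, hne⟩⟩
    obtain ⟨r, hr, hr1⟩ := Base.exists_prime_pCore_ne_bot (G := M ⧸ O)
    haveI := Fact.mk hr
    haveI : (pCore r (M ⧸ O)).Normal := Subgroup.normal_of_characteristic _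
    set N := (pCore r (M ⧸ O)).comap (QuotientGroup.mk' O) with hN
    have hON : O ≤ N := fun x hx => by
      show QuotientGroup.mk' O x ∈ pCore r (M ⧸ O)
      rw [show QuotientGroup.mk' O x = 1 from (QuotientGroup.eq_one_iff x).2 hx]
      exact one_mem _
    have hrp : r ≠ p := by
      rintro rfl
      refine hr1 ?_
      have hle : N ≤ O := Base.le_pCore ((Base.isPGroup_pCore r (M ⧸ O)).comap_of_ker_isPGroup _
        (by rw [QuotientGroup.ker_mk']; exact hOp))
      rw [eq_bot_iff]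
      intro x hx
      obtain ⟨y, rfl⟩ := QuotientGroup.mk'_surjective O x
      exact (QuotientGroup.eq_one_iff y).2 (hle hx)
    obtain ⟨S⟩ : Nonempty (Sylow r N) := inferInstance
    set R := (S : Subgroup N).map N.subtype with hR
    have hRr : IsPGroup r R := S.2.map _
    have hsup : normalizer (R : Set M) ⊔ N = ⊤ := Sylow.normalizer_sup_eq_top S
    have hNi : ∀ q : ℕ, q.Prime → q ≠ r → q ∣ O.index → q ∣ N.index := fun q hq hqr hd => by
      rw [← Subgroup.relIndex_mul_index hON] at hd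
      refine (hq.dvd_mul.1 hd).resolve_left fun h1 => hqr ?_
      have h2 : O.relIndex N = Nat.card ↥(pCore r (M ⧸ O)) := by
        have h4 := Subgroup.relIndex_ker N (QuotientGroup.mk' O)
        rw [QuotientGroup.ker_mk'] at h4
        rw [h4, hN, Subgroup.map_comap_eq_self_of_surjective (QuotientGroup.mk'_surjective O)]
      obtain ⟨j, hj⟩ := IsPGroup.iff_card.1 (Base.isPGroup_pCore r (M ⧸ O))
      rw [h2, hj] at h1
      exact (Nat.prime_dvd_prime_iff_eq hq hr).1 (hq.dvd_of_dvd_pow h1)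
    have hpO : p ∣ O.index := by
      have h1 : (QuotientGroup.mk g : M ⧸ O) ^ p = 1 := by rw [← QuotientGroup.mk_pow, hg, QuotientGroup.mk_one]
      rw [Subgroup.index_eq_card, ← orderOf_eq_prime h1 hne]
      exact orderOf_dvd_natCard _
    have hpN : p ∣ Nat.card ↥(normalizer (R : Set M)) := by
      refine (hNi p hp.out (Ne.symm hrp) hpO).trans ?_
      have hsurj : Function.Surjective ((QuotientGroup.mk' N).comp (normalizer (R : Set M)).subtype) := by
        intro x
        obtain ⟨y, rfl⟩ := QuotientGroup.mk'_surjective N x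
        obtain ⟨z, hz, n, hn, rfl⟩ := Subgroup.mem_sup_of_normal_right.1 (hsup.ge (Subgroup.mem_top y))
        refine ⟨⟨z, hz⟩, ?_⟩
        show QuotientGroup.mk' N z = QuotientGroup.mk' N (z * n)
        rw [map_mul, show QuotientGroup.mk' N n = 1 from (QuotientGroup.eq_one_iff n).2 hn, mul_one]
      rw [Subgroup.index_eq_card]
      exact Subgroup.card_dvd_of_surjective _ hsurj
    obtain ⟨z, hz⟩ := exists_prime_orderOf_dvd_card' p hpN
    rw [← Subgroup.orderOf_coe] at hz
    refine no_norm hexp hfree (hOp.to_le hVO) hVc hV1 (g := (z : M)) (by rw [← hz]; exact pow_orderOf_eq_one _)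
      (fun e => by rw [e, orderOf_one] at hz; exact hp.out.ne_one hz.symm) (R := R) ?_ ?_ z.2
    · intro hRb
      rw [hR, Subgroup.map_eq_bot_iff_of_injective _ N.subtype_injective] at hRb
      have h1 : ¬ r ∣ Nat.card N := by
        have h2 := S.card_eq_multiplicity
        rw [hRb, Subgroup.card_bot] at h2
        intro h3
        have := hr.factorization_pos_of_dvd Nat.card_pos.ne' h3
        have := Nat.one_lt_pow this.ne' hr.one_lt
        omega
      obtain ⟨j, hj⟩ := IsPGroup.iff_card.1 (Base.isPGroup_pCore r (M ⧸ O))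
      refine h1 (dvd_trans ?_ (Subgroup.card_dvd_of_surjective
        ((QuotientGroup.mk' O).subgroupComap (pCore r (M ⧸ O)))
        (MonoidHom.subgroupComap_surjective_of_surjective _ _ (QuotientGroup.mk'_surjective O))))
      rw [hj]
      refine dvd_pow_self r fun e => hr1 (Subgroup.eq_bot_of_card_eq _ (by rw [hj, e, pow_zero]))
    · obtain ⟨j, hj⟩ := IsPGroup.iff_card.1 hRr
      rw [hj]
      exact fun h => hrp ((Nat.prime_dvd_prime_iff_eq hp.out hr).1 (hp.out.dvd_of_dvd_pow h)).symm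

end CfsgLib.CsPSL
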