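import Cfsg.Agent.Lib.CsPSL.Types

/-!
# The central quotient of a group with the class sizes of `PSL₂(q)`
-/

set_option autoImplicit false
set_option linter.style.haveILetI false
set_option linter.unusedSectionVars false

namespace CfsgLib.CsPSL

open CharApps.ClassSizes

universe u

variable {G : Type u} [Group G] [Finite G]

local notation "C(" g ")" => Subgroup.centralizer ({g} : Set G)
local notation "Z" => Subgroup.center G
local notation "π" => QuotientGroup.mk' (Subgroup.center G)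

/-- The properties of the central quotient. -/
structure XData (p f q d h k : ℕ) (X : Type u) [Group X] : Prop where
  par : Par p f q d h k
  card : Nat.card X = q * d * h * k
  cent : ∀ x : X, x ≠ 1 → (∃ i, orderOf x = p ^ i) →
    Nat.card ↥(Subgroup.centralizer ({x} : Set X)) = q
  no_hk : ∀ (a b : X) (r s : ℕ), r.Prime → s.Prime → r ∣ h → s ∣ k → orderOf a = r → orderOf b = s →
    ¬ Commute a b

theorem exists_lift {r i : ℕ} (hr : r.Prime) {a : G ⧸ Z} (ha : orderOf a = r ^ i) :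
    ∃ g : G, (∃ j, orderOf g = r ^ j) ∧ π g = a := by
  obtain ⟨g, rfl⟩ := QuotientGroup.mk'_surjective Z a
  obtain ⟨k₁, k₂, hmul, ⟨e, he⟩, hco⟩ := exists_split g r
  obtain ⟨j, -, hj⟩ := (Nat.dvd_prime_pow hr).1 he
  refine ⟨g ^ k₁, ⟨j, hj⟩, ?_⟩
  have h1 : π (g ^ k₂) = 1 := by
    refine orderOf_eq_one_iff.1 (Nat.Coprime.eq_one_of_dvd ?_ (dvd_refl _))
    refine Nat.Coprime.coprime_dvd_left (orderOf_map_dvd π _) (Nat.Coprime.coprime_dvd_right ?_ (hco.pow_right i))
    rw [map_pow, ← ha]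
    exact orderOf_pow_dvd k₂
  rw [← mul_one (π (g ^ k₁)), ← h1, ← map_mul, hmul]

/-- Commuting images of elements of coprime order come from commuting elements. -/
theorem commute_of_coprime {a b : G} (hc : Commute (π a) (π b))
    (hco : (orderOf a).Coprime (orderOf b)) : Commute a b := by
  have hm : a * b * a⁻¹ * b⁻¹ ∈ Z := by
    refine (QuotientGroup.eq_one_iff _).1 ?_
    show π (a * b * a⁻¹ * b⁻¹) = 1
    rw [map_mul, map_mul, map_mul, map_inv, map_inv, hc.eq]
    group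
  set c := a * b * a⁻¹ * b⁻¹ with hcdef
  have hcc : ∀ g : G, Commute c g := fun g => (Subgroup.mem_center_iff.1 hm g).symm
  have h1 : c ^ orderOf b = 1 := by
    have h2 : (c * b) ^ orderOf b = 1 := by
      rw [show c * b = a * b * a⁻¹ by rw [hcdef]; group, conj_pow, pow_orderOf_eq_one, mul_one, mul_inv_cancel]
    rwa [(hcc b).mul_pow, pow_orderOf_eq_one, mul_one] at h2
  have h3 : c ^ orderOf a = 1 := by
    have h2 : (a⁻¹ * c) ^ orderOf a = 1 := by
      rw [show a⁻¹ * c = b * a⁻¹ * b⁻¹ by rw [hcdef]; group, conj_pow, inv_pow, pow_orderOf_eq_one, inv_one,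
        mul_one, mul_inv_cancel]
    rwa [(hcc a⁻¹).symm.mul_pow, inv_pow, pow_orderOf_eq_one, inv_one, one_mul] at h2
  have h4 : c = 1 := by
    rw [← orderOf_eq_one_iff]
    exact Nat.Coprime.eq_one_of_dvd ((hco.coprime_dvd_left (orderOf_dvd_of_pow_eq_one h3)).coprime_dvd_right
      (orderOf_dvd_of_pow_eq_one h1)) (dvd_refl _)
  show a * b = b * a
  calc a * b = c * b * a := by rw [hcdef]; group
    _ = b * a := by rw [h4, one_mul]

variable {p f q d h k : ℕ} (S : CS p f q d h k G)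
include S

theorem tyr_eq_zero {r : ℕ} : tyr p k r = 0 ↔ r = p := by
  unfold tyr
  split_ifs <;> simp_all

theorem idx_p {x : G} {i : ℕ} (hx : orderOf x = p ^ i) (hxZ : x ∉ Z) : idx x = d * h * k := by
  have P := S.par
  have hpq : p ∣ q * d * h * k := (P.hq ▸ dvd_pow_self p P.hf.ne' : p ∣ q).trans ⟨d * h * k, by ring⟩
  rcases ty_cases S hxZ with ⟨-, e⟩ | ⟨t, -⟩ | ⟨t, -⟩
  · exact e
  all_goals
    rw [ty_of_primary S P.hp hpq hx hxZ, (tyr_eq_zero S).2 rfl] at t
    omega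

/-- The elements of order prime to `p` in the centraliser of a noncentral `p`-element are central. -/
theorem pprime_central {x u : G} {i : ℕ} (hx : orderOf x = p ^ i) (hxZ : x ∉ Z) (hc : Commute x u)
    (hu : (orderOf u).Coprime p) : u ∈ Z := by
  by_contra huZ
  obtain ⟨r, j, e, hr, he, hne⟩ := exists_noncentral_primary huZ
  refine not_commute S S.par.hp hr ?_ hx hxZ he hne (hc.pow_right j)
  rw [(tyr_eq_zero S).2 rfl]
  intro h0
  obtain rfl := (tyr_eq_zero S).1 h0.symm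
  have h1 : e = 0 := by
    by_contra h1
    have h2 : r ∣ orderOf u := (he ▸ dvd_pow_self r h1 : r ∣ orderOf (u ^ j)).trans (orderOf_pow_dvd j)
    exact hr.not_dvd_one (hu ▸ Nat.dvd_gcd h2 (dvd_refl r))
  rw [h1, pow_zero, orderOf_eq_one_iff] at he
  exact hne (he ▸ one_mem _)

theorem card_quot : Nat.card (G ⧸ Z) = q * d * h * k := by
  have P := S.par
  haveI := Fact.mk P.hp
  have := P.h3; have := P.k3; have := P.four_le
  have hd0 := P.d_pos
  obtain ⟨yp, hyp⟩ := S.mem_p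
  obtain ⟨yk, hyk⟩ := S.mem_k
  have hG : Nat.card G = Nat.card (G ⧸ Z) * Nat.card ↥Z := Subgroup.card_eq_card_quotient_mul_card_subgroup _
  have hrel : ∀ w : G, idx w * (Z).relIndex C(w) = Nat.card (G ⧸ Z) := fun w => by
    rw [mul_comm]
    exact Subgroup.relIndex_mul_index (center_le_C w)
  have hnc : ∀ {w : G} {r : ℕ}, r.Prime → r ∣ (Z).relIndex C(w) →
      ∃ u ∈ C(w), (∃ i, orderOf u = r ^ i) ∧ u ∉ Z := fun {w r} hr hd' => by
    haveI := Fact.mk hr
    refine exists_noncentral_in (m := 1) hr.not_dvd_one ?_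
    rw [one_mul]
    have h1 := hG
    rw [← hrel w, mul_assoc, ← card_G S w] at h1
    exact (Nat.mul_dvd_mul_right hd' _).trans (dvd_of_eq (Nat.eq_of_mul_eq_mul_left (idx_pos w) h1).symm)
  have hyZ : ∀ {y : G} {m : ℕ}, idx y = m → 1 < m → y ∉ Z := fun e hm hc => by
    rw [idx_eq_one_iff.2 hc] at e
    omega
  obtain ⟨s, x, hs, -, hst, -, ⟨i, hi⟩, hxZ⟩ := exists_witness S
    (hyZ hyp (by nlinarith [Nat.mul_pos hd0 (by omega : 0 < h)]))
  obtain ⟨s', v, hs', -, hst', -, ⟨i', hi'⟩, hvZ⟩ := exists_witness S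
    (hyZ hyk (by nlinarith [Nat.mul_pos hd0 (by omega : 0 < q)]))
  have hpq : p ∣ q * d * h * k := (P.hq ▸ dvd_pow_self p P.hf.ne' : p ∣ q).trans ⟨d * h * k, by ring⟩
  rcases ty_cases S (hyZ hyp (by nlinarith [Nat.mul_pos hd0 (by omega : 0 < h)])) with ⟨t, -⟩ | ⟨-, e⟩ | ⟨-, e⟩
  rotate_left
  · exfalso
    rw [hyp] at e
    obtain ⟨hpd, hph, hpk⟩ := P.not_p_dvd
    have hpq' : p ∣ q := P.hq ▸ dvd_pow_self p P.hf.ne'
    rcases e with e | e <;> refine P.hp.not_dvd_mul (P.hp.not_dvd_mul hpd hph) hpk (e ▸ ?_)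
    exacts [hpq'.mul_right k, (hpq'.mul_left d).mul_right k]
  · exfalso
    rw [hyp] at e
    obtain ⟨hpd, hph, hpk⟩ := P.not_p_dvd
    exact P.hp.not_dvd_mul (P.hp.not_dvd_mul hpd hph) hpk
      (e ▸ ((P.hq ▸ dvd_pow_self p P.hf.ne' : p ∣ q).mul_left d).mul_right h)
  rw [t, tyr_eq_zero S] at hst
  rw [hst] at hi
  have hx := idx_p S hi hxZ
  have hv : idx v = d * q * h := by
    obtain ⟨hpd, hph, hpk⟩ := P.not_p_dvd
    rcases ty_cases S (hyZ hyk (by nlinarith [Nat.mul_pos hd0 (by omega : 0 < q)])) with ⟨-, e⟩ | ⟨-, e⟩ | ⟨t', -⟩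
    · exfalso
      rw [hyk] at e
      exact P.hp.not_dvd_mul (P.hp.not_dvd_mul hpd hph) hpk
        (e ▸ ((P.hq ▸ dvd_pow_self p P.hf.ne' : p ∣ q).mul_left d).mul_right h)
    · exfalso
      rw [hyk] at e
      have h1 : d * q * h ∣ d * q * k := by
        rcases e with e | e <;> rw [e]
        exact ⟨d, by ring⟩
      have := P.cop_hk.eq_one_of_dvd ((Nat.mul_dvd_mul_iff_left (Nat.mul_pos hd0 (by omega : 0 < q))).1 h1)
      omega
    · have h2 : tyr p k s' = 2 := hst'.trans t'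
      have hs'k : s' ∣ k := by
        unfold tyr at h2
        split_ifs at h2 with e1 e2
        all_goals first | exact e2 | omega
      rcases ty_cases S hvZ with ⟨t2, -⟩ | ⟨t2, -⟩ | ⟨-, e2⟩
      rotate_right
      · exact e2
      all_goals
        rw [ty_of_primary S hs' (hs'k.trans ⟨q * d * h, by ring⟩) hi' hvZ, h2] at t2
        omega
  -- the indices of the centre in the two centralisers
  have hN1 : ∀ r : ℕ, r.Prime → r ∣ (Z).relIndex C(x) → r = p := fun r hr hd' => by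
    by_contra hne
    obtain ⟨u, hu, ⟨j, hj⟩, huZ⟩ := hnc hr hd'
    exact huZ (pprime_central S hi hxZ (mem_C.1 hu).symm
      (by rw [hj]; exact Nat.Coprime.pow_left _ ((Nat.coprime_primes hr P.hp).2 hne)))
  have hN2 : ¬ p ∣ (Z).relIndex C(v) := fun hd' => by
    obtain ⟨u, hu, ⟨j, hj⟩, huZ⟩ := hnc P.hp hd'
    refine hvZ (pprime_central S hj huZ (mem_C.1 hu) ?_)
    rw [hi']
    refine Nat.Coprime.pow_left _ ((Nat.coprime_primes hs' P.hp).2 fun e => ?_)
    rw [e] at hi'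
    have := idx_p S hi' hvZ
    rw [hv] at this
    obtain ⟨hpd, hph, hpk⟩ := P.not_p_dvd
    exact P.hp.not_dvd_mul (P.hp.not_dvd_mul hpd hph) hpk
      (this ▸ ((P.hq ▸ dvd_pow_self p P.hf.ne' : p ∣ q).mul_left d).mul_right h)
  have e1 := hrel x
  have e2 := hrel v
  rw [hx] at e1
  rw [hv, ← e1] at e2
  have e3 : q * (Z).relIndex C(v) = k * (Z).relIndex C(x) :=
    Nat.eq_of_mul_eq_mul_left (Nat.mul_pos hd0 (by omega : 0 < h)) (by linarith)
  have hx0 : (Z).relIndex C(x) ≠ 0 := fun e => by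
    rw [e, mul_zero] at e1
    exact Nat.card_pos.ne' e1.symm
  have hq : (Z).relIndex C(x) = q := by
    refine Nat.dvd_antisymm ?_ (P.cop_qk.dvd_of_dvd_mul_left ⟨_, e3.symm⟩)
    refine Nat.Coprime.dvd_of_dvd_mul_right ?_ (Dvd.intro_left k e3.symm : (Z).relIndex C(x) ∣ q * (Z).relIndex C(v))
    have hpp := Nat.eq_prime_pow_of_unique_prime_dvd hx0 (p := p) fun {r} hr hd' => hN1 r hr hd'
    rw [hpp]
    exact Nat.Coprime.pow_left _ ((P.hp.coprime_iff_not_dvd).2 hN2)
  rw [← e1, hq]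
  ring

theorem xdata : XData p f q d h k (G ⧸ Z) := by
  have P := S.par
  refine ⟨P, card_quot S, fun a ha ⟨i, hi⟩ => ?_, fun a b r s hr hs hrh hsk hi hj hc => ?_⟩
  · haveI := Fact.mk P.hp
    obtain ⟨x, ⟨i', hi'⟩, rfl⟩ := exists_lift P.hp hi
    have hxZ : x ∉ Z := fun e => ha ((QuotientGroup.eq_one_iff x).2 e)
    set W := Subgroup.centralizer ({π x} : Set (G ⧸ Z)) with hW
    have hpg : IsPGroup p W := by
      refine IsPGroup.iff_orderOf.2 fun ⟨b, hb⟩ => ?_
      rw [Subgroup.orderOf_mk]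
      obtain ⟨g, rfl⟩ := QuotientGroup.mk'_surjective Z b
      obtain ⟨k₁, k₂, hmul, ⟨e, he⟩, hco⟩ := exists_split g p
      have h2 : g ^ k₂ ∈ Z := by
        refine pprime_central S hi' hxZ ?_ hco
        refine commute_of_coprime ?_ (by rw [hi']; exact (hco.pow_right i').symm)
        rw [map_pow]
        exact ((mem_C.1 hb).pow_left k₂).symm
      have h3 : π (g ^ k₁) = π g := by
        conv_rhs => rw [← hmul]
        rw [map_mul, show π (g ^ k₂) = 1 from (QuotientGroup.eq_one_iff (g ^ k₂)).2 h2, mul_one]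
      obtain ⟨j, -, hj⟩ := (Nat.dvd_prime_pow P.hp).1
        (((orderOf_map_dvd π (g ^ k₁)).trans he : orderOf (π (g ^ k₁)) ∣ p ^ e))
      exact ⟨j, h3 ▸ hj⟩
    obtain ⟨m, hm⟩ := IsPGroup.iff_card.1 hpg
    have hdvd : p ^ m ∣ q * d * h * k := by
      rw [← hm, ← card_quot S]
      exact Subgroup.card_subgroup_dvd_card W
    have hle : C(x) ≤ W.comap π := fun c hc => mem_C.2 ((mem_C.1 hc).map π)
    have hidx : W.index ∣ d * h * k := by
      rw [← idx_p S hi' hxZ, ← Subgroup.index_comap_of_surjective W (QuotientGroup.mk'_surjective Z)]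
      exact Subgroup.index_dvd_of_le hle
    obtain ⟨hpd, hph, hpk⟩ := P.not_p_dvd
    have h1 : p ^ m ∣ q := by
      refine Nat.Coprime.dvd_of_dvd_mul_right ?_ (show p ^ m ∣ q * (d * h * k) from hdvd.trans (dvd_of_eq (by ring)))
      exact Nat.Coprime.pow_left _ ((P.hp.coprime_iff_not_dvd).2 (P.hp.not_dvd_mul (P.hp.not_dvd_mul hpd hph) hpk))
    rw [hm]
    refine Nat.dvd_antisymm h1 ?_
    have h2 := W.card_mul_index
    rw [hm, card_quot S] at h2
    obtain ⟨t, ht⟩ := hidx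
    have hi0 : 0 < W.index := Nat.pos_of_ne_zero Subgroup.index_ne_zero_of_finite
    refine ⟨t, Nat.eq_of_mul_eq_mul_right hi0 ?_⟩
    rw [h2, mul_assoc q d h, mul_assoc q (d * h) k, ht]
    ring
  · obtain ⟨x, ⟨i', hi'⟩, rfl⟩ := exists_lift hr (i := 1) (hi.trans (pow_one r).symm)
    obtain ⟨y, ⟨j', hj'⟩, rfl⟩ := exists_lift hs (i := 1) (hj.trans (pow_one s).symm)
    have hrk : ¬ r ∣ k := fun e => hr.not_dvd_one (P.cop_hk ▸ Nat.dvd_gcd hrh e)
    have hrp : r ≠ p := fun e => P.not_p_dvd.2.1 (e ▸ hrh)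
    have hsp : s ≠ p := fun e => P.not_p_dvd.2.2 (e ▸ hsk)
    have hne : tyr p k r ≠ tyr p k s := by
      unfold tyr
      rw [if_neg hrp, if_neg hrk, if_neg hsp, if_pos hsk]
      omega
    refine not_commute S hr hs hne hi' (fun e => ?_) hj' (fun e => ?_) (commute_of_coprime hc ?_)
    · rw [show π x = 1 from (QuotientGroup.eq_one_iff x).2 e, orderOf_one] at hi
      exact hr.ne_one hi.symm
    · rw [show π y = 1 from (QuotientGroup.eq_one_iff y).2 e, orderOf_one] at hj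
      exact hs.ne_one hj.symm
    · rw [hi', hj']
      exact Nat.Coprime.pow _ _ ((Nat.coprime_primes hr hs).2 fun e => hne (by rw [← e]))

end CfsgLib.CsPSL
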