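import Cfsg.Agent.Lib.CsPSL.LFacts
import Cfsg.Agent.Lib.FgsB.ClassPrimes

/-!
# Types of elements in a group with the class sizes of `PSL₂(q)`
-/

set_option autoImplicit false
set_option linter.style.haveILetI false
set_option linter.unusedSectionVars false

namespace CfsgLib.CsPSL

open CharApps.ClassSizes

universe u

variable {G : Type u} [Group G] [Finite G]

local notation "C(" g ")" => Subgroup.centralizer ({g} : Set G)
local notation "Z" => Subgroup.center G

/-- A group with the class sizes of `PSL₂(q)`. -/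
structure CS (p f q d h k : ℕ) (G : Type u) [Group G] : Prop where
  par : Par p f q d h k
  sizes : ∀ g : G, g ∈ Subgroup.center G ∨ idx g = d * h * k ∨ idx g = q * k ∨ idx g = d * q * k ∨
    idx g = d * q * h
  mem_p : ∃ g : G, idx g = d * h * k
  mem_h : ∃ g : G, idx g = q * k
  mem_k : ∃ g : G, idx g = d * q * h

theorem cs_of_range {F : Type*} [Group F] [Finite F] {p f q d h k : ℕ} (P : Par p f q d h k)
    (L : LData q d h k F)
    (hr : Set.range (fun g : G => (Subgroup.centralizer ({g} : Set G)).index) =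
      Set.range (fun g : F => (Subgroup.centralizer ({g} : Set F)).index)) : CS p f q d h k G := by
  have hG : ∀ u : F, ∃ g : G, idx g = idx u := fun u => (Set.ext_iff.1 hr (idx u)).2 ⟨u, rfl⟩
  have hcy : ∀ {u : F} {o : ℕ}, Nat.card ↥(Subgroup.centralizer ({u} : Set F)) = o → 0 < o →
      idx u * o = q * d * h * k := by
    intro u o ho _
    rw [← L.card, ← ho]
    exact Subgroup.index_mul_card _
  refine ⟨P, fun g => ?_, ?_, ?_, ?_⟩
  · obtain ⟨u, hu : idx u = idx g⟩ := (Set.ext_iff.1 hr (idx g)).1 ⟨g, rfl⟩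
    rcases L.sizes u with e | e
    · exact .inl (idx_eq_one_iff.1 (hu ▸ e))
    · exact .inr (hu ▸ e)
  · obtain ⟨u, hu⟩ := L.mem_p
    obtain ⟨g, hg⟩ := hG u
    exact ⟨g, hg.trans hu⟩
  · rcases P.d_cases with ⟨hd, -⟩ | ⟨hd, -⟩
    · obtain ⟨u, -, hu⟩ := L.cyc_h
      obtain ⟨g, hg⟩ := hG u
      refine ⟨g, hg.trans ?_⟩
      have h0 : 0 < h := by have := P.h3; omega
      refine Nat.eq_of_mul_eq_mul_right h0 ?_
      rw [hcy hu h0, hd]
      ring
    · obtain ⟨u, hu⟩ := L.mem_two hd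
      obtain ⟨g, hg⟩ := hG u
      exact ⟨g, hg.trans hu⟩
  · obtain ⟨u, -, hu⟩ := L.cyc_k
    obtain ⟨g, hg⟩ := hG u
    refine ⟨g, hg.trans ?_⟩
    have h0 : 0 < k := by have := P.k3; omega
    refine Nat.eq_of_mul_eq_mul_right h0 ?_
    rw [hcy hu h0]
    ring

/-- A subgroup in which all elements of `s`-power order are central. -/
theorem exists_noncentral_in {H : Subgroup G} {s m : ℕ} [hs : Fact s.Prime] (hm : ¬ s ∣ m)
    (hd : s * Nat.card ↥Z ∣ m * Nat.card ↥H) :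
    ∃ u ∈ H, (∃ i, orderOf u = s ^ i) ∧ u ∉ Z := by
  by_contra hno
  push Not at hno
  obtain ⟨S⟩ : Nonempty (Sylow s ↥H) := inferInstance
  have hle : (S : Subgroup ↥H).map H.subtype ≤ Z := by
    rintro _ ⟨u, hu, rfl⟩
    obtain ⟨i, hi⟩ := (IsPGroup.iff_orderOf.1 S.isPGroup') ⟨u, hu⟩
    rw [Subgroup.orderOf_mk] at hi
    exact hno _ u.2 ⟨i, (Subgroup.orderOf_coe u).trans hi⟩
  have h1 := Subgroup.card_dvd_of_le hle
  rw [Subgroup.card_map_of_injective H.subtype_injective, S.card_eq_multiplicity,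
    hs.out.pow_dvd_iff_le_factorization Nat.card_pos.ne'] at h1
  have hm0 : m ≠ 0 := fun e => hm (e ▸ dvd_zero s)
  have h2 := (Nat.factorization_le_iff_dvd (Nat.mul_ne_zero hs.out.ne_zero Nat.card_pos.ne')
    (Nat.mul_ne_zero hm0 Nat.card_pos.ne')).2 hd s
  rw [Nat.factorization_mul hs.out.ne_zero Nat.card_pos.ne',
    Nat.factorization_mul hm0 Nat.card_pos.ne'] at h2
  simp only [Finsupp.coe_add, Pi.add_apply, hs.out.factorization_self,
    Nat.factorization_eq_zero_of_not_dvd hm] at h2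
  omega

variable {p f q d h k : ℕ} (S : CS p f q d h k G)

open scoped Classical in
/-- The type of an element. -/
noncomputable def ty (p d q h : ℕ) (g : G) : ℕ :=
  if ¬ p ∣ idx g then 0 else if idx g = d * q * h then 2 else 1

/-- The type attached to a prime. -/
def tyr (p k r : ℕ) : ℕ := if r = p then 0 else if r ∣ k then 2 else 1

include S

theorem ty_cases {g : G} (hg : g ∉ Z) :
    (ty p d q h g = 0 ∧ idx g = d * h * k) ∨ (ty p d q h g = 1 ∧ (idx g = q * k ∨ idx g = d * q * k)) ∨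
      (ty p d q h g = 2 ∧ idx g = d * q * h) := by
  have P := S.par
  obtain ⟨hpd, hph, hpk⟩ := P.not_p_dvd
  have hpq : p ∣ q := P.hq ▸ dvd_pow_self p P.hf.ne'
  have hk1 : k ≠ 1 := by have := P.k3; omega
  have hne1 : q * k ≠ d * q * h := fun e => by
    have h1 : k = d * h := Nat.eq_of_mul_eq_mul_left (by have := P.four_le; omega : 0 < q) (by rw [e]; ring)
    exact hk1 (Nat.Coprime.eq_one_of_dvd (P.cop_dk.symm.mul_right P.cop_hk.symm) (dvd_of_eq h1))
  have hne2 : d * q * k ≠ d * q * h := fun e => by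
    have h1 : k = h := Nat.eq_of_mul_eq_mul_left (Nat.mul_pos P.d_pos (by have := P.four_le; omega)) e
    exact hk1 (Nat.Coprime.eq_one_of_dvd P.cop_hk.symm (dvd_of_eq h1))
  unfold ty
  rcases S.sizes g with hc | e | e | e | e
  · exact absurd hc hg
  · left
    refine ⟨if_pos ?_, e⟩
    rw [e]
    exact P.hp.not_dvd_mul (P.hp.not_dvd_mul hpd hph) hpk
  · refine .inr (.inl ⟨?_, .inl e⟩)
    rw [if_neg (not_not_intro (e ▸ hpq.mul_right k)), if_neg (e ▸ hne1)]
  · refine .inr (.inl ⟨?_, .inr e⟩)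
    rw [if_neg (not_not_intro (e ▸ (hpq.mul_left d).mul_right k)), if_neg (e ▸ hne2)]
  · refine .inr (.inr ⟨?_, e⟩)
    rw [if_neg (not_not_intro (e ▸ (hpq.mul_left d).mul_right h)), if_pos e]

theorem ty_eq_of_dvd {a b : G} (ha : a ∉ Z) (hb : b ∉ Z) (hd : idx a ∣ idx b) :
    ty p d q h a = ty p d q h b := by
  have P := S.par
  obtain ⟨hpd, hph, hpk⟩ := P.not_p_dvd
  have hpq : p ∣ q := P.hq ▸ dvd_pow_self p P.hf.ne'
  have := P.h3; have := P.k3; have := P.four_le
  have hnp : ¬ p ∣ d * h * k := P.hp.not_dvd_mul (P.hp.not_dvd_mul hpd hph) hpk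
  have hd0 := P.d_pos
  have one : ∀ {n m : ℕ}, n.Coprime m → n ∣ m → n = 1 := fun hc hm => hc.eq_one_of_dvd hm
  have h1 : ∀ {g : G}, idx g = q * k ∨ idx g = d * q * k → q * k ∣ idx g ∧ idx g ∣ d * q * k := fun e => by
    rcases e with e | e <;> rw [e]
    · exact ⟨dvd_rfl, ⟨d, by ring⟩⟩
    · exact ⟨⟨d, by ring⟩, dvd_rfl⟩
  rcases ty_cases S ha with ⟨ta, ea⟩ | ⟨ta, ea⟩ | ⟨ta, ea⟩ <;>
    rcases ty_cases S hb with ⟨tb, eb⟩ | ⟨tb, eb⟩ | ⟨tb, eb⟩ <;> rw [ta, tb]
  all_goals exfalso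
  · have e := hd.trans (h1 eb).2
    rw [ea, show d * h * k = d * k * h by ring, show d * q * k = d * k * q by ring,
      Nat.mul_dvd_mul_iff_left (Nat.mul_pos hd0 (by omega : 0 < k))] at e
    have := one P.cop_qh.symm e
    omega
  · rw [ea, eb, show d * h * k = d * h * k from rfl, show d * q * h = d * h * q by ring,
      Nat.mul_dvd_mul_iff_left (Nat.mul_pos hd0 (by omega : 0 < h))] at hd
    have := one P.cop_qk.symm hd
    omega
  · exact hnp ((hpq.mul_right k).trans (eb ▸ (h1 ea).1.trans hd))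
  · have e := (h1 ea).1.trans hd
    rw [eb, show d * q * h = q * (d * h) by ring, Nat.mul_dvd_mul_iff_left (by omega : 0 < q)] at e
    have := one (P.cop_dk.symm.mul_right P.cop_hk.symm) e
    omega
  · exact hnp (((hpq.mul_left d).mul_right h).trans (eb ▸ ea ▸ hd))
  · have e := hd.trans (h1 eb).2
    rw [ea, Nat.mul_dvd_mul_iff_left (Nat.mul_pos hd0 (by omega : 0 < q))] at e
    have := one P.cop_hk e
    omega

theorem ty_eq_of_le {a b : G} (hb : b ∉ Z) (hle : C(a) ≤ C(b)) :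
    a ∉ Z ∧ ty p d q h b = ty p d q h a := by
  have ha : a ∉ Z := fun e => hb (C_eq_top_iff.1 (top_le_iff.1 ((C_eq_top_iff.2 e).ge.trans hle)))
  exact ⟨ha, ty_eq_of_dvd S hb ha (idx_dvd_of_le hle)⟩

theorem ty_conj (g x : G) : ty p d q h (g * x * g⁻¹) = ty p d q h x := by
  unfold ty
  rw [idx_conj]

theorem ty_eq_of_commute {x w : G} (hx : x ∉ Z) (hw : w ∉ Z) (hc : Commute x w)
    (hco : (orderOf x).Coprime (orderOf w)) : ty p d q h x = ty p d q h w := by
  have e := C_mul_eq hc hco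
  exact (ty_eq_of_le S hx (e.le.trans inf_le_left)).2.trans
    (ty_eq_of_le S hw (e.le.trans inf_le_right)).2.symm

theorem exists_good {r : ℕ} (hr : r.Prime) (hrd : r ∣ q * d * h * k) :
    ∃ y : G, y ∉ Z ∧ ¬ r ∣ idx y ∧ ty p d q h y = tyr p k r := by
  have P := S.par
  obtain ⟨hpd, hph, hpk⟩ := P.not_p_dvd
  have hd0 := P.d_pos
  have := P.h3; have := P.k3; have := P.four_le
  have key : ∀ {y : G} {m : ℕ}, idx y = m → 1 < m → y ∉ Z := fun e hm hc => by
    rw [idx_eq_one_iff.2 hc] at e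
    omega
  have hrq : r ∣ q → r = p := fun e => (Nat.prime_dvd_prime_iff_eq hr P.hp).1 (hr.dvd_of_dvd_pow (P.hq ▸ e))
  unfold tyr
  by_cases hrp : r = p
  · subst hrp
    obtain ⟨y, hy⟩ := S.mem_p
    have hyZ := key hy (by nlinarith [Nat.mul_pos hd0 (by omega : 0 < h)])
    refine ⟨y, hyZ, hy ▸ hr.not_dvd_mul (hr.not_dvd_mul hpd hph) hpk, ?_⟩
    rw [if_pos rfl]
    rcases ty_cases S hyZ with ⟨t, -⟩ | ⟨-, e⟩ | ⟨-, e⟩
    · exact t
    all_goals exfalso
    all_goals have hpq : r ∣ q := P.hq ▸ dvd_pow_self r P.hf.ne'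
    · rw [hy] at e
      rcases e with e | e <;> refine hr.not_dvd_mul (hr.not_dvd_mul hpd hph) hpk (e ▸ ?_)
      exacts [hpq.mul_right k, (hpq.mul_left d).mul_right k]
    · rw [hy] at e
      exact hr.not_dvd_mul (hr.not_dvd_mul hpd hph) hpk (e ▸ (hpq.mul_left d).mul_right h)
  rw [if_neg hrp]
  by_cases hrk : r ∣ k
  · obtain ⟨y, hy⟩ := S.mem_k
    have hyZ := key hy (by nlinarith [Nat.mul_pos hd0 (by omega : 0 < q)])
    refine ⟨y, hyZ, ?_, ?_⟩
    · rw [hy]
      refine hr.not_dvd_mul (hr.not_dvd_mul (fun e => ?_) fun e => hrp (hrq e)) fun e => ?_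
      · exact hr.not_dvd_one (P.cop_dk ▸ Nat.dvd_gcd e hrk)
      · exact hr.not_dvd_one (P.cop_hk ▸ Nat.dvd_gcd e hrk)
    · rw [if_pos hrk]
      unfold ty
      rw [if_neg (not_not_intro (hy ▸ ((P.hq ▸ dvd_pow_self p P.hf.ne' : p ∣ q).mul_left d).mul_right h)),
        if_pos hy]
  · obtain ⟨y, hy⟩ := S.mem_h
    have hyZ := key hy (by nlinarith)
    refine ⟨y, hyZ, hy ▸ hr.not_dvd_mul (fun e => hrp (hrq e)) hrk, ?_⟩
    rw [if_neg hrk]
    rcases ty_cases S hyZ with ⟨-, e⟩ | ⟨t, -⟩ | ⟨-, e⟩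
    · exfalso
      exact hpk (by
        have : p ∣ d * h * k := by rw [← e, hy]; exact (P.hq ▸ dvd_pow_self p P.hf.ne' : p ∣ q).mul_right k
        exact absurd this (P.hp.not_dvd_mul (P.hp.not_dvd_mul hpd hph) hpk))
    · exact t
    · exfalso
      have h1 : k = d * h := Nat.eq_of_mul_eq_mul_left (by omega : 0 < q) (by rw [← hy, e]; ring)
      have := Nat.Coprime.eq_one_of_dvd (P.cop_dk.symm.mul_right P.cop_hk.symm) (dvd_of_eq h1)
      omega

theorem card_G (y : G) : idx y * Nat.card ↥(C(y)) = Nat.card G := Subgroup.index_mul_card _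

/-- Every noncentral element commutes with a noncentral element of prime power order for a prime of
its type. -/
theorem exists_witness {x : G} (hx : x ∉ Z) :
    ∃ s : ℕ, ∃ w : G, s.Prime ∧ s ∣ q * d * h * k ∧ tyr p k s = ty p d q h x ∧ Commute w x ∧
      (∃ i, orderOf w = s ^ i) ∧ w ∉ Z := by
  have P := S.par
  obtain ⟨hpd, hph, hpk⟩ := P.not_p_dvd
  have hd0 := P.d_pos
  have := P.h3; have := P.k3; have := P.four_le
  have hz : ∀ y : G, idx y * Nat.card ↥Z ∣ Nat.card G := fun y => by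
    rw [← card_G S y]
    exact Nat.mul_dvd_mul_left _ (Subgroup.card_dvd_of_le (center_le_C y))
  have fin : ∀ {s m : ℕ}, s.Prime → s ∣ q * d * h * k → tyr p k s = ty p d q h x → ¬ s ∣ m →
      s * Nat.card ↥Z ∣ m * Nat.card ↥(C(x)) → ∃ s : ℕ, ∃ w : G, s.Prime ∧ s ∣ q * d * h * k ∧
        tyr p k s = ty p d q h x ∧ Commute w x ∧ (∃ i, orderOf w = s ^ i) ∧ w ∉ Z := by
    intro s m hs h1 h2 hm hdvd
    haveI := Fact.mk hs
    obtain ⟨w, hw, hi, hwZ⟩ := exists_noncentral_in hm hdvd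
    exact ⟨s, w, hs, h1, h2, mem_C.1 hw, hi, hwZ⟩
  have hpq : p ∣ q := P.hq ▸ dvd_pow_self p P.hf.ne'
  obtain ⟨yp, hyp⟩ := S.mem_p
  obtain ⟨yh, hyh⟩ := S.mem_h
  rcases ty_cases S hx with ⟨t, e⟩ | ⟨t, e⟩ | ⟨t, e⟩
  · refine fin (s := p) (m := d * h * k) P.hp ?_ (by rw [t, tyr, if_pos rfl])
      (P.hp.not_dvd_mul (P.hp.not_dvd_mul hpd hph) hpk) ?_
    · exact hpq.trans ⟨d * h * k, by ring⟩
    · rw [← e, card_G S x]
      refine (Nat.mul_dvd_mul_right ?_ _).trans (hz yh)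
      exact hyh ▸ hpq.mul_right k
  · obtain ⟨s, hs, hsh⟩ := Nat.exists_prime_and_dvd (show h ≠ 1 by omega)
    have hsq : ¬ s ∣ q := fun e' => hs.not_dvd_one (P.cop_qh ▸ Nat.dvd_gcd e' hsh)
    refine fin (m := q) hs (hsh.trans ⟨q * d * k, by ring⟩) ?_ hsq ?_
    · rw [t, tyr, if_neg (fun e' => hsq (by rw [e']; exact hpq)), if_neg fun e' =>
        hs.not_dvd_one (P.cop_hk ▸ Nat.dvd_gcd hsh e')]
    · refine (Nat.mul_dvd_mul_right hsh _).trans ((Nat.mul_dvd_mul_iff_left (Nat.mul_pos hd0 (by omega : 0 < k))).1 ?_)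
      have h1 := hz yp
      rw [hyp, ← card_G S x] at h1
      rw [show d * k * (h * Nat.card ↥Z) = d * h * k * Nat.card ↥Z by ring,
        show d * k * (q * Nat.card ↥(C(x))) = d * q * k * Nat.card ↥(C(x)) by ring]
      refine h1.trans (Nat.mul_dvd_mul_right ?_ _)
      rcases e with e | e <;> rw [e]
      exact ⟨d, by ring⟩
  · obtain ⟨s, hs, hsk⟩ := Nat.exists_prime_and_dvd (show k ≠ 1 by omega)
    have hsq : ¬ s ∣ q := fun e' => hs.not_dvd_one (P.cop_qk ▸ Nat.dvd_gcd e' hsk)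
    refine fin (m := q) hs (hsk.trans ⟨q * d * h, by ring⟩) ?_ hsq ?_
    · rw [t, tyr, if_neg (fun e' => hsq (by rw [e']; exact hpq)), if_pos hsk]
    · refine (Nat.mul_dvd_mul_right hsk _).trans ((Nat.mul_dvd_mul_iff_left (Nat.mul_pos hd0 (by omega : 0 < h))).1 ?_)
      have h1 := hz yp
      rw [hyp, ← card_G S x, e] at h1
      rw [show d * h * (k * Nat.card ↥Z) = d * h * k * Nat.card ↥Z by ring,
        show d * h * (q * Nat.card ↥(C(x))) = d * q * h * Nat.card ↥(C(x)) by ring]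
      exact h1

/-- An element of prime power order has the type of its prime. -/
theorem ty_of_primary {r i : ℕ} (hr : r.Prime) (hrd : r ∣ q * d * h * k) {u : G}
    (hu : orderOf u = r ^ i) (huZ : u ∉ Z) : ty p d q h u = tyr p k r := by
  have P := S.par
  haveI := Fact.mk hr
  obtain ⟨y, hy, hry, hyt⟩ := exists_good S hr hrd
  obtain ⟨k₁, k₂, hmul, ⟨e, he⟩, hco⟩ := exists_split y r
  rw [← hyt]
  obtain ⟨Q, hQ⟩ := (IsPGroup.of_card (show Nat.card ↥(Subgroup.zpowers u) = r ^ i by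
    rw [Nat.card_zpowers, hu]) : IsPGroup r ↥(Subgroup.zpowers u)).exists_le_sylow
  have hconj : ∀ {v : G}, ¬ r ∣ idx v → ∃ g : G, Commute (g * u * g⁻¹) v := by
    intro v hv
    obtain ⟨P', hP'⟩ := FgsB.ClassPrimes.exists_sylow_le_centralizer hv
    obtain ⟨g, hg⟩ := MulAction.exists_smul_eq G Q P'
    refine ⟨g, Subgroup.mem_centralizer_iff.1 hP' _ ?_⟩
    rw [← hg, Sylow.coe_subgroup_smul]
    exact ⟨u, hQ (Subgroup.mem_zpowers u), rfl⟩
  have hord : ∀ g : G, orderOf (g * u * g⁻¹) = r ^ i := fun g => by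
    rw [← hu]
    exact orderOf_injective (MulAut.conj g).toMonoidHom (MulAut.conj g).injective u
  have hnr : ∀ k', ¬ r ∣ idx (y ^ k') := fun k' e' => hry (e'.trans (idx_dvd_of_le (C_le_C_pow y k')))
  by_cases h2 : y ^ k₂ ∈ Z
  swap
  · obtain ⟨g, hg⟩ := hconj (hnr k₂)
    rw [← ty_conj S g u, ty_eq_of_commute S (mem_center_conj.not.2 huZ) h2 hg
      (by rw [hord]; exact (hco.pow_right i).symm)]
    exact (ty_eq_of_le S h2 (C_le_C_pow y k₂)).2
  have hC : C(y ^ k₁) = C(y) := by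
    conv_rhs => rw [← hmul]
    exact (C_eq_of_mul_center h2).symm
  set v := y ^ k₁ with hv
  have hvZ : v ∉ Z := fun e' => hy (C_eq_top_iff.1 (hC ▸ C_eq_top_iff.2 e'))
  have hvt : ty p d q h v = ty p d q h y := (ty_eq_of_le S hvZ hC.ge).2
  obtain ⟨g, hg⟩ := hconj (hnr k₁)
  rw [← hv] at hg
  set u' := g * u * g⁻¹ with hu'
  have hu'Z : u' ∉ Z := mem_center_conj.not.2 huZ
  rw [← ty_conj S g u, ← hu']
  by_contra hne
  obtain ⟨s, w, hs, -, hst, hwc, ⟨j, hj⟩, hwZ⟩ := exists_witness S hu'Z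
  have hsr : s ≠ r := fun e' => hne (by rw [← hst, e', hyt])
  have hrs : (r ^ i).Coprime (s ^ j) := Nat.Coprime.pow _ _ ((Nat.coprime_primes hr hs).2 hsr.symm)
  have e1 := C_mul_eq hwc.symm (by rw [hord, hj]; exact hrs)
  obtain ⟨hm, htm⟩ := ty_eq_of_le S hu'Z (e1.le.trans inf_le_left)
  have hwv : Commute v w → False := fun hc => by
    obtain ⟨a, -, ha⟩ := (Nat.dvd_prime_pow hr).1 he
    exact hne (by rw [← hvt, ty_eq_of_commute S hvZ hwZ hc (by
      rw [ha, hj]; exact Nat.Coprime.pow _ _ ((Nat.coprime_primes hr hs).2 hsr.symm)),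
      ty_eq_of_commute S hu'Z hwZ hwc.symm (by rw [hord, hj]; exact hrs)])
  have hvu : v ∈ C(u') := mem_C.2 hg.symm
  by_cases he' : idx (u' * w) = idx u'
  · have hCC := C_eq_of_le_of_idx (e1.le.trans inf_le_left) he'
    exact hwv (mem_C.1 ((e1.symm.trans hCC).ge hvu).2)
  -- now the index is two
  have hdv := idx_dvd_of_le (e1.le.trans inf_le_left : C(u' * w) ≤ C(u'))
  have h2' : d = 2 ∧ idx u' = q * k ∧ idx (u' * w) = d * q * k ∧ ty p d q h u' = 1 := by
    rcases ty_cases S hu'Z with ⟨t, e2⟩ | ⟨t, e2⟩ | ⟨t, e2⟩ <;>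
      rcases ty_cases S hm with ⟨t', e3⟩ | ⟨t', e3⟩ | ⟨t', e3⟩ <;>
      rw [t, t'] at htm <;> first | omega | skip
    · rcases P.d_cases with ⟨hd1, -⟩ | ⟨hd2, -⟩
      · rw [hd1, one_mul] at e2 e3
        exact absurd ((e3.elim id id).trans (e2.elim id id).symm) he'
      rcases e2 with e2 | e2 <;> rcases e3 with e3 | e3
      · exact absurd (e3.trans e2.symm) he'
      · exact ⟨hd2, e2, e3, t⟩
      · exfalso
        rw [e2, e3, hd2] at hdv
        have := Nat.le_of_dvd (Nat.mul_pos (by have := P.four_le; omega) (by have := P.k3; omega)) hdv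
        have := P.four_le; have := P.k3
        nlinarith
      · exact absurd (e3.trans e2.symm) he'
  obtain ⟨hd2, eu, euw, tu⟩ := h2'
  have hrel : (C(u' * w)).relIndex C(u') = 2 := by
    have h1 := Subgroup.relIndex_mul_index (e1.le.trans inf_le_left : C(u' * w) ≤ C(u'))
    change _ * idx u' = idx (u' * w) at h1
    rw [eu, euw, hd2, Nat.mul_assoc 2 q k] at h1
    exact Nat.eq_of_mul_eq_mul_right (m := q * k)
      (Nat.mul_pos (by have := P.four_le; omega) (by have := P.k3; omega)) h1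
  by_cases hr2 : r = 2
  · refine hne ?_
    rw [tu, hyt, tyr, if_neg, if_neg]
    · rw [hr2]
      exact fun e' => absurd (Nat.dvd_gcd (dvd_refl 2) e') (by rw [← hd2, P.cop_dk.gcd_eq_one, Nat.dvd_one]; omega)
    · rcases P.d_cases with ⟨hd1, -⟩ | ⟨-, hp2⟩
      · omega
      · rw [hr2]; exact hp2.symm
  obtain ⟨a, -, ha⟩ := (Nat.dvd_prime_pow hr).1 he
  have hv2 : v ^ 2 ∈ C(u' * w) :=
    Subgroup.mem_subgroupOf.1 (Subgroup.sq_mem_of_index_two (H := (C(u' * w)).subgroupOf C(u')) hrel ⟨v, hvu⟩)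
  obtain ⟨b, hb⟩ := exists_pow_eq_self_of_coprime (x := v) (n := 2)
    (by rw [ha]; exact Nat.Coprime.pow_right _ ((Nat.coprime_primes Nat.prime_two hr).2 (Ne.symm hr2)))
  refine hwv (mem_C.1 ?_)
  rw [← hb]
  exact pow_mem (e1.le hv2).2 b

theorem central_of_not_dvd {r i : ℕ} (hr : r.Prime) (hrd : ¬ r ∣ q * d * h * k) {u : G}
    (hu : orderOf u = r ^ i) : u ∈ Z := by
  haveI := Fact.mk hr
  have hall : ∀ g : G, ¬ r ∣ idx g := fun g hg => by
    rcases S.sizes g with e | e | e | e | e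
    · rw [idx_eq_one_iff.2 e] at hg; exact hr.not_dvd_one hg
    all_goals rw [e] at hg; refine hrd (hg.trans ?_)
    exacts [⟨q, by ring⟩, ⟨d * h, by ring⟩, ⟨h, by ring⟩, ⟨k, by ring⟩]
  obtain ⟨Q, hQ⟩ := (IsPGroup.of_card (show Nat.card ↥(Subgroup.zpowers u) = r ^ i by
    rw [Nat.card_zpowers, hu]) : IsPGroup r ↥(Subgroup.zpowers u)).exists_le_sylow
  have htop : Subgroup.centralizer ((Q : Subgroup G) : Set G) = ⊤ :=
    FgsB.eq_top_of_forall_exists_conj_mem fun x => FgsB.ClassPrimes.exists_conj_mem_centralizer Q (hall x)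
  exact Subgroup.centralizer_eq_top_iff_subset.1 htop (hQ (Subgroup.mem_zpowers u))

/-- Two noncentral elements of prime power orders for primes of different types do not commute. -/
theorem not_commute {r s i j : ℕ} (hr : r.Prime) (hs : s.Prime) (hne : tyr p k r ≠ tyr p k s) {a b : G}
    (ha : orderOf a = r ^ i) (haZ : a ∉ Z) (hb : orderOf b = s ^ j) (hbZ : b ∉ Z) : ¬ Commute a b := by
  intro hc
  have hrd : r ∣ q * d * h * k := by_contra fun e => haZ (central_of_not_dvd S hr e ha)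
  have hsd : s ∣ q * d * h * k := by_contra fun e => hbZ (central_of_not_dvd S hs e hb)
  refine hne ?_
  rw [← ty_of_primary S hr hrd ha haZ, ← ty_of_primary S hs hsd hb hbZ]
  exact ty_eq_of_commute S haZ hbZ hc
    (by rw [ha, hb]; exact Nat.Coprime.pow _ _ ((Nat.coprime_primes hr hs).2 fun e => hne (by rw [e])))

end CfsgLib.CsPSL
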