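import Cfsg.Agent.Lib.CsPSL.Quot
import Cfsg.Agent.Lib.CsPSL.PClosed
import Cfsg.Agent.Lib.Base.FrobeniusSolutions
import Cfsg.Agent.Lib.Perm.ZassG.PSL
import Cfsg.Agent.Lib.Perm.ZassG.SharpPGLEven
import Cfsg.Agent.Lib.CharP.FixSylow

/-!
# A group with the local structure of `PSL₂(q)` is `PSL₂(q)`
-/

set_option autoImplicit false
set_option linter.style.haveILetI false
set_option linter.unusedSectionVars false

namespace CfsgLib.CsPSL

open Subgroup MulAction CharApps.ClassSizes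

universe u

variable {X : Type u} [Group X] [Finite X]

local notation "C(" g ")" => Subgroup.centralizer ({g} : Set X)

/-- A conjugation invariant set with constant class size. -/
theorem dvd_ncard {n : ℕ} (s : Set X) (hs : ∀ x ∈ s, idx x = n)
    (hinv : ∀ x ∈ s, ∀ g : X, g * x * g⁻¹ ∈ s) : n ∣ s.ncard := by
  induction hN : s.ncard using Nat.strong_induction_on generalizing s with
  | _ N ih =>
    subst hN
    rcases s.eq_empty_or_nonempty with rfl | ⟨x, hx⟩
    · simp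
    set c : Set X := {y | IsConj x y} with hc
    have hcs : c ⊆ s := fun y hy => by
      obtain ⟨g, rfl⟩ := isConj_iff.1 hy
      exact hinv x hx g
    have hcn : c.ncard = n := by
      have h1 := Chars.card_isConj_mul_card_centralizer x
      rw [← hs x hx]
      refine Nat.eq_of_mul_eq_mul_right (Nat.card_pos (α := C(x))) ?_
      rw [← Nat.card_coe_set_eq]
      exact h1.trans (Subgroup.index_mul_card _).symm
    have hsplit := Set.ncard_diff_add_ncard_of_subset hcs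
    have hcpos : 0 < c.ncard := (Set.ncard_pos (Set.toFinite _)).2 ⟨x, IsConj.refl x⟩
    have hinv' : ∀ y ∈ s \ c, ∀ g : X, g * y * g⁻¹ ∈ s \ c := fun y hy g =>
      ⟨hinv y hy.1 g, fun hm => hy.2 ((show IsConj x (g * y * g⁻¹) from hm).trans (isConj_iff.2 ⟨g, rfl⟩).symm)⟩
    have h2 : n ∣ (s \ c).ncard := ih _ (by omega) _ (fun y hy => hs y hy.1) hinv' rfl
    rw [← hsplit, hcn]
    exact dvd_add h2 dvd_rfl

variable {p f q d h k : ℕ} (D : XData p f q d h k X) [hp : Fact p.Prime]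
include D

theorem pow_q {a : X} (ha : ∃ i, a ^ p ^ i = 1) : a ^ q = 1 := by
  by_cases h1 : a = 1
  · rw [h1, one_pow]
  obtain ⟨i, hi⟩ := ha
  obtain ⟨j, -, hj⟩ := (Nat.dvd_prime_pow hp.out).1 (orderOf_dvd_of_pow_eq_one hi)
  have h2 := orderOf_dvd_natCard (⟨a, self_mem_C a⟩ : C(a))
  rw [Subgroup.orderOf_mk, D.cent a h1 ⟨j, hj⟩] at h2
  exact orderOf_dvd_iff_pow_eq_one.1 h2

theorem card_C {a : X} (ha : ∃ i, a ^ p ^ i = 1) (h1 : a ≠ 1) : Nat.card C(a) = p ^ f := by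
  obtain ⟨i, hi⟩ := ha
  obtain ⟨j, -, hj⟩ := (Nat.dvd_prime_pow hp.out).1 (orderOf_dvd_of_pow_eq_one hi)
  rw [D.cent a h1 ⟨j, hj⟩, D.par.hq]

theorem free {a y : X} (ha : ∃ i, a ^ p ^ i = 1) (h1 : a ≠ 1) (hc : Commute a y)
    (hy : ¬ p ∣ orderOf y) : y = 1 := by
  have h2 := orderOf_dvd_natCard (⟨y, mem_C.2 hc.symm⟩ : C(a))
  rw [Subgroup.orderOf_mk, card_C D ha h1] at h2
  obtain ⟨j, -, hj⟩ := (Nat.dvd_prime_pow hp.out).1 h2
  rcases j with _ | j
  · exact orderOf_eq_one_iff.1 (hj.trans (pow_zero p))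
  · exact absurd (hj ▸ dvd_pow_self p (Nat.succ_ne_zero j)) hy

theorem card_sylow (P : Sylow p X) : Nat.card ↥(P : Subgroup X) = q := by
  have := D.par.h3; have := D.par.k3; have hd0 := D.par.d_pos; have := D.par.four_le
  have hm : ¬ p ∣ d * h * k := by
    obtain ⟨h1, h2, h3⟩ := D.par.not_p_dvd
    exact hp.out.not_dvd_mul (hp.out.not_dvd_mul h1 h2) h3
  have hm0 : d * h * k ≠ 0 := fun e => hm (e ▸ dvd_zero p)
  rw [P.card_eq_multiplicity, D.card, show q * d * h * k = q * (d * h * k) by ring, D.par.hq,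
    Nat.factorization_mul (pow_ne_zero f hp.out.ne_zero) hm0]
  simp [hp.out.factorization_self, Nat.factorization_eq_zero_of_not_dvd hm]

theorem index_sylow (P : Sylow p X) : (P : Subgroup X).index = d * h * k := by
  have h1 := (P : Subgroup X).card_mul_index
  rw [card_sylow D P, D.card, mul_assoc, mul_assoc] at h1
  rw [Nat.eq_of_mul_eq_mul_left (by have := D.par.four_le; omega : 0 < q) h1, mul_assoc]

theorem idx_p' {x : X} (hx : ∃ i, x ^ p ^ i = 1) (h1 : x ≠ 1) : idx x = d * h * k := by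
  have h2 : C(x).index * Nat.card C(x) = Nat.card X := Subgroup.index_mul_card _
  rw [card_C D hx h1, ← D.par.hq, D.card] at h2
  exact Nat.eq_of_mul_eq_mul_right (by have := D.par.four_le; omega : 0 < q) (h2.trans (by ring))

theorem exists_sylow_mem {x : X} (hx : ∃ i, x ^ p ^ i = 1) : ∃ P : Sylow p X, x ∈ P := by
  obtain ⟨i, hi⟩ := hx
  obtain ⟨j, -, hj⟩ := (Nat.dvd_prime_pow hp.out).1 (orderOf_dvd_of_pow_eq_one hi)
  obtain ⟨P, hP⟩ := (IsPGroup.of_card (show Nat.card ↥(zpowers x) = p ^ j by rw [Nat.card_zpowers, hj]) :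
    IsPGroup p ↥(zpowers x)).exists_le_sylow
  exact ⟨P, hP (mem_zpowers x)⟩

theorem pow_of_mem {P : Sylow p X} {x : X} (hx : x ∈ P) : ∃ i, x ^ p ^ i = 1 := by
  obtain ⟨i, hi⟩ := P.2 ⟨x, hx⟩
  exact ⟨i, congrArg Subtype.val hi⟩

theorem card_sylows_le : Nat.card (Sylow p X) ≤ d * h * k := by
  obtain ⟨P⟩ : Nonempty (Sylow p X) := inferInstance
  refine Nat.le_of_dvd ?_ ?_
  · have := D.par.h3; have := D.par.k3
    exact Nat.mul_pos (Nat.mul_pos D.par.d_pos (by omega)) (by omega)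
  · rw [P.card_eq_index_normalizer, ← index_sylow D P]
    exact Subgroup.index_dvd_of_le le_normalizer

theorem ncard_pElements : {x : X | x ≠ 1 ∧ x ^ q = 1}.ncard = d * (d * h * k) ∧
    ∀ x : X, (∃ i, x ^ p ^ i = 1) → x ^ p = 1 := by
  classical
  have := D.par.h3; have := D.par.k3; have hd0 := D.par.d_pos; have hq4 := D.par.four_le
  have hpos : 0 < d * h * k := Nat.mul_pos (Nat.mul_pos hd0 (by omega)) (by omega)
  have key : ∀ m : ℕ, (∃ i, m = p ^ i) → m ∣ Nat.card X →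
      ∃ c, {x : X | x ≠ 1 ∧ x ^ m = 1}.ncard = c * (d * h * k) ∧ m ∣ c * (d * h * k) + 1 := by
    rintro _ ⟨i, rfl⟩ hm
    obtain ⟨c, hc⟩ := dvd_ncard {x : X | x ≠ 1 ∧ x ^ p ^ i = 1} (fun x hx => idx_p' D ⟨i, hx.2⟩ hx.1)
      (fun x hx g => ⟨fun e => hx.1 (conj_eq_one_iff.1 e), by rw [conj_pow, hx.2, mul_one, mul_inv_cancel]⟩)
    refine ⟨c, hc.trans (mul_comm _ _), ?_⟩
    have h1 := Base.Solutions.dvd_card_pow_eq_one hm
    have h2 : {x : X | x ^ p ^ i = 1} = insert 1 {x : X | x ≠ 1 ∧ x ^ p ^ i = 1} := by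
      ext x
      by_cases hx : x = 1 <;> simp [hx]
    rw [show Nat.card {g : X // g ^ p ^ i = 1} = {x : X | x ^ p ^ i = 1}.ncard from Nat.card_coe_set_eq _, h2,
      Set.ncard_insert_of_notMem (by simp), hc, mul_comm (d * h * k) c] at h1
    exact h1
  obtain ⟨c, hc, hcd⟩ := key q ⟨f, D.par.hq⟩ (D.card ▸ ⟨d * h * k, by ring⟩)
  have hpq : p ∣ q := D.par.hq ▸ dvd_pow_self p D.par.hf.ne'
  obtain ⟨c₁, hc₁, hc₁d⟩ := key p ⟨1, (pow_one p).symm⟩ (D.card ▸ hpq.trans ⟨d * h * k, by ring⟩)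
  -- at most `q - 1` classes
  have hmem : ∀ x : {x : X | x ≠ 1 ∧ x ^ q = 1}, ∃ P : Sylow p X, (x : X) ∈ P := fun x =>
    exists_sylow_mem D ⟨f, D.par.hq ▸ x.2.2⟩
  choose φ hφ using hmem
  have hle : {x : X | x ≠ 1 ∧ x ^ q = 1}.ncard ≤ Nat.card (Sylow p X) * (q - 1) := by
    rw [← Nat.card_coe_set_eq]
    haveI := Fintype.ofFinite (Sylow p X)
    calc Nat.card {x : X | x ≠ 1 ∧ x ^ q = 1}
        ≤ Nat.card (Σ P : Sylow p X, {y : ↥(P : Subgroup X) // y ≠ 1}) :=
          Nat.card_le_card_of_injective (fun x => ⟨φ x, ⟨⟨x, hφ x⟩, fun e => x.2.1 (congrArg Subtype.val e)⟩⟩)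
            (fun x y e => Subtype.ext (congrArg (fun z : Σ P : Sylow p X, {y : ↥(P : Subgroup X) // y ≠ 1} =>
              ((z.2.1 : ↥(z.1 : Subgroup X)) : X)) e))
      _ = Nat.card (Sylow p X) * (q - 1) := by
          rw [Nat.card_sigma, Finset.sum_congr rfl (g := fun _ => q - 1) (fun P _ => ?_), Finset.sum_const,
            Finset.card_univ, smul_eq_mul, Nat.card_eq_fintype_card]
          haveI := Fintype.ofFinite ↥(P : Subgroup X)
          rw [← card_sylow D P, Nat.card_eq_fintype_card, Nat.card_eq_fintype_card,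
            Fintype.card_subtype_compl, Fintype.card_subtype_eq]
  have hcq : c < q := by
    have h1 : c * (d * h * k) ≤ (q - 1) * (d * h * k) := by
      rw [← hc, mul_comm (q - 1)]
      exact hle.trans (Nat.mul_le_mul_right _ (card_sylows_le D))
    have := Nat.le_of_mul_le_mul_right h1 hpos
    omega
  have hdq : d < q := by rcases D.par.d_cases with ⟨e, -⟩ | ⟨e, -⟩ <;> omega
  have hcdd : c = d := by
    obtain ⟨t, ht⟩ := hcd
    have h1 : c + q * (d * t) = d + q * (q * c) := by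
      calc c + q * (d * t) = c + d * (q * t) := by ring
        _ = c + d * (c * (d * h * k) + 1) := by rw [ht]
        _ = c * (d * d * h * k + 1) + d := by ring
        _ = d + q * (q * c) := by rw [D.par.sq_eq]; ring
    have h2 := congrArg (· % q) h1
    simp only [Nat.add_mul_mod_self_left, Nat.mod_eq_of_lt hcq, Nat.mod_eq_of_lt hdq] at h2
    exact h2
  rw [hcdd] at hc
  refine ⟨hc, ?_⟩
  have hsub : {x : X | x ≠ 1 ∧ x ^ p = 1} ⊆ {x : X | x ≠ 1 ∧ x ^ q = 1} := fun x hx =>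
    ⟨hx.1, pow_q D ⟨1, by rw [pow_one]; exact hx.2⟩⟩
  have hc1le : c₁ ≤ d := by
    refine Nat.le_of_mul_le_mul_right ?_ hpos
    rw [← hc₁, ← hc]
    exact Set.ncard_le_ncard hsub
  have hc1 : c₁ = d := by
    have hne : c₁ ≠ 0 := fun e => by
      rw [e, zero_mul, zero_add] at hc₁d
      exact hp.out.not_dvd_one hc₁d
    rcases D.par.d_cases with ⟨e, -⟩ | ⟨e, -⟩
    · omega
    by_contra hne2
    obtain rfl : c₁ = 1 := by omega
    have h1 : p ∣ d * d * h * k + 1 := by rw [D.par.sq_eq]; exact hpq.mul_right q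
    have h2 : p ∣ (d * d * h * k + 1) + 1 := by
      rw [show (d * d * h * k + 1) + 1 = d * (1 * (d * h * k) + 1) by rw [e]; ring]
      exact hc₁d.mul_left d
    exact hp.out.not_dvd_one ((Nat.dvd_add_right h1).1 h2)
  have heq : {x : X | x ≠ 1 ∧ x ^ p = 1} = {x : X | x ≠ 1 ∧ x ^ q = 1} :=
    Set.eq_of_subset_of_ncard_le hsub (by rw [hc, hc₁, hc1])
  intro x hx
  by_cases h1 : x = 1
  · rw [h1, one_pow]
  exact (heq.ge ⟨h1, pow_q D hx⟩).2

theorem sylow_comm (P : Sylow p X) {x y : X} (hx : x ∈ P) (hy : y ∈ P) : Commute x y := by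
  classical
  have hexp := (ncard_pElements D).2
  by_cases hp2 : p = 2
  · subst hp2
    have key : ∀ {z : X}, z ∈ P → z⁻¹ = z := fun hz => inv_eq_of_mul_eq_one_left (by
      rw [← sq]; exact hexp _ (pow_of_mem D hz))
    show x * y = y * x
    rw [← key (mul_mem hx hy), _root_.mul_inv_rev, key hx, key hy]
  by_contra hxy
  have hx1 : x ≠ 1 := fun e => hxy (e ▸ Commute.one_left y)
  obtain ⟨Q, hQ⟩ := (IsPGroup.of_card (card_C D (pow_of_mem D hx) hx1) : IsPGroup p ↥C(x)).exists_le_sylow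
  have hPQ : P ≠ Q := fun e => by
    have h1 : C(x) = (Q : Subgroup X) := Subgroup.eq_of_le_of_card_ge hQ
      (by rw [card_sylow D Q, card_C D (pow_of_mem D hx) hx1, D.par.hq])
    exact hxy (mem_C.1 (h1.ge (e ▸ hy))).symm
  let s : Set (Sylow p X × Sylow p X) := {z | z.1 ≠ z.2 ∧ (z.1 : Subgroup X) ⊓ (z.2 : Subgroup X) ≠ ⊥}
  have hs : s.Nonempty := ⟨(P, Q), hPQ, fun e => hx1 (Subgroup.mem_bot.1 (e ▸ ⟨hx, hQ (self_mem_C x)⟩))⟩
  obtain ⟨⟨A, B⟩, ⟨hAB, hne⟩, hmax⟩ := Set.exists_max_image s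
    (fun z => Nat.card ↥((z.1 : Subgroup X) ⊓ (z.2 : Subgroup X))) (Set.toFinite s) hs
  set E := (A : Subgroup X) ⊓ (B : Subgroup X) with hE
  set L := normalizer (E : Set X) with hL
  have hEL : E ≤ L := le_normalizer
  haveI : (E.subgroupOf L).Normal := Subgroup.normal_in_normalizer
  have hcore : ∀ g : X, (∃ i, g ^ p ^ i = 1) → (hg : g ∈ L) → (⟨g, hg⟩ : L) ∈ Cfsg.pCore p L := by
    intro g hgp hg
    refine mem_pCore hp2 (fun z hz => ?_) (fun a b ha ha1 hc hb => ?_)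
      ((A.2.to_le inf_le_left).of_equiv (Subgroup.subgroupOfEquivOfLe hEL).symm)
      (fun e => hne ((Subgroup.subgroupOf_eq_bot.1 e).eq_bot_of_le hEL)) ?_
    · obtain ⟨i, hi⟩ := hz
      exact Subtype.ext (hexp _ ⟨i, congrArg Subtype.val hi⟩)
    · exact Subtype.ext (free D ⟨1, by rw [pow_one]; exact congrArg Subtype.val ha⟩
        (fun e => ha1 (Subtype.ext e)) (hc.map L.subtype) (by rwa [← Subgroup.orderOf_coe] at hb))
    · obtain ⟨i, hi⟩ := hgp
      exact ⟨i, Subtype.ext hi⟩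
  obtain ⟨T, hT⟩ := ((Base.isPGroup_pCore p L).map L.subtype).exists_le_sylow
  have hkey : ∀ R : Sylow p X, E ≤ (R : Subgroup X) → E ≠ (R : Subgroup X) → R = T := by
    intro R hER hne2
    by_contra hRT
    have hlt := CharP.lt_normalizer_inf R.2 (lt_of_le_of_ne hER hne2)
    have hle : normalizer (E : Set X) ⊓ (R : Subgroup X) ≤ (R : Subgroup X) ⊓ (T : Subgroup X) := fun g hg =>
      ⟨hg.2, hT ⟨⟨g, hg.1⟩, hcore g (pow_of_mem D hg.2) hg.1, rfl⟩⟩
    have hlt2 : E < (R : Subgroup X) ⊓ (T : Subgroup X) := lt_of_lt_of_le hlt hle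
    have h1 := hmax (R, T) ⟨hRT, fun e => hne (le_bot_iff.1 (e ▸ hlt2.le))⟩
    exact absurd (Subgroup.eq_of_le_of_card_ge hlt2.le h1) hlt2.ne
  have hneA : E ≠ (A : Subgroup X) := fun e => hAB (Sylow.ext (Subgroup.eq_of_le_of_card_ge
    (inf_eq_left.1 e) (by rw [card_sylow D A, card_sylow D B])))
  have hneB : E ≠ (B : Subgroup X) := fun e => hAB (Sylow.ext (Subgroup.eq_of_le_of_card_ge
    (inf_eq_right.1 e) (by rw [card_sylow D A, card_sylow D B])).symm)
  exact hAB ((hkey A inf_le_left hneA).trans (hkey B inf_le_right hneB).symm)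

theorem C_eq {P : Sylow p X} {x : X} (hx : x ∈ P) (h1 : x ≠ 1) : C(x) = (P : Subgroup X) :=
  (Subgroup.eq_of_le_of_card_ge (fun _ hy => mem_C.2 (sylow_comm D P hy hx))
    (by rw [card_sylow D P, card_C D (pow_of_mem D hx) h1, D.par.hq])).symm

theorem sylow_unique {P Q : Sylow p X} {x : X} (hP : x ∈ P) (hQ : x ∈ Q) (h1 : x ≠ 1) : P = Q :=
  Sylow.ext ((C_eq D hP h1).symm.trans (C_eq D hQ h1))

theorem card_sylows : Nat.card (Sylow p X) = q + 1 := by
  classical
  have hd0 := D.par.d_pos; have hq4 := D.par.four_le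
  haveI := Fintype.ofFinite (Sylow p X)
  let e : (Σ P : Sylow p X, {y : ↥(P : Subgroup X) // y ≠ 1}) → {x : X | x ≠ 1 ∧ x ^ q = 1} := fun z =>
    ⟨(z.2.1 : X), fun e => z.2.2 (Subtype.ext e), pow_q D (pow_of_mem D z.2.1.2)⟩
  have hb : Function.Bijective e := by
    refine ⟨?_, fun ⟨x, hx1, hxq⟩ => ?_⟩
    · rintro ⟨P, ⟨⟨y, hy⟩, hy1⟩⟩ ⟨Q, ⟨⟨z, hz⟩, hz1⟩⟩ he
      obtain rfl : y = z := congrArg Subtype.val he
      obtain rfl := sylow_unique D hy hz fun e' => hy1 (Subtype.ext e')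
      rfl
    · obtain ⟨P, hP⟩ := exists_sylow_mem D ⟨f, D.par.hq ▸ hxq⟩
      exact ⟨⟨P, ⟨x, hP⟩, fun e' => hx1 (congrArg Subtype.val e')⟩, rfl⟩
  have h1 := Nat.card_congr (Equiv.ofBijective e hb)
  rw [Nat.card_coe_set_eq, (ncard_pElements D).1, Nat.card_sigma,
    Finset.sum_congr rfl (g := fun _ => q - 1) (fun P _ => by
      haveI := Fintype.ofFinite ↥(P : Subgroup X)
      rw [← card_sylow D P, Nat.card_eq_fintype_card, Nat.card_eq_fintype_card,
        Fintype.card_subtype_compl, Fintype.card_subtype_eq]), Finset.sum_const, Finset.card_univ, smul_eq_mul,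
    ← Nat.card_eq_fintype_card] at h1
  obtain ⟨j, rfl⟩ : ∃ j, q = j + 1 := ⟨q - 1, by omega⟩
  rw [Nat.add_sub_cancel] at h1
  refine Nat.eq_of_mul_eq_mul_right (show 0 < j by omega) ?_
  have h2 := D.par.sq_eq
  nlinarith

theorem mem_of_fix {P Q : Sylow p X} {x : X} (hx : x ∈ P) (h1 : x ≠ 1) (hfix : x • Q = Q) : Q = P := by
  have hn : x ∈ normalizer ((Q : Subgroup X) : Set X) := Sylow.smul_eq_iff_mem_normalizer.1 hfix
  obtain ⟨i, hi⟩ := pow_of_mem D hx
  obtain ⟨j, -, hj⟩ := (Nat.dvd_prime_pow hp.out).1 (orderOf_dvd_of_pow_eq_one hi)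
  have hz : IsPGroup p ↥(zpowers x) := IsPGroup.of_card (show Nat.card ↥(zpowers x) = p ^ j by
    rw [Nat.card_zpowers, hj])
  have hsup := Q.2.to_sup_of_normal_left' hz (zpowers_le.2 hn)
  exact sylow_unique D (show x ∈ (Q : Subgroup X) from (Q.3 hsup le_sup_left).le (mem_sup_right (mem_zpowers x)))
    hx h1

theorem existsUnique_move {P Q R : Sylow p X} (hQ : Q ≠ P) (hR : R ≠ P) :
    ∃! u : ↥(P : Subgroup X), (u : X) • Q = R := by
  have hne : ∀ u : ↥(P : Subgroup X), (u : X) • Q ≠ P := fun u e => by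
    refine hQ (smul_left_cancel (u : X) (e.trans ?_))
    exact (Sylow.smul_eq_iff_mem_normalizer.2 (le_normalizer u.2)).symm
  let φ : ↥(P : Subgroup X) → {S : Sylow p X // S ≠ P} := fun u => ⟨(u : X) • Q, hne u⟩
  have hinj : Function.Injective φ := fun u v e => by
    have e' : (u : X) • Q = (v : X) • Q := congrArg Subtype.val e
    by_contra huv
    refine hQ (mem_of_fix D (x := (v : X)⁻¹ * u) (mul_mem (inv_mem v.2) u.2)
      (fun h1 => huv (Subtype.ext (inv_mul_eq_one.1 h1).symm)) ?_)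
    rw [mul_smul, e', inv_smul_smul]
  classical
  haveI := Fintype.ofFinite (Sylow p X)
  have hcard : Nat.card ↥(P : Subgroup X) = Nat.card {S : Sylow p X // S ≠ P} := by
    rw [card_sylow D P, Nat.card_eq_fintype_card, Fintype.card_subtype_compl, Fintype.card_subtype_eq,
      ← Nat.card_eq_fintype_card, card_sylows D, Nat.add_sub_cancel]
  obtain ⟨u, hu⟩ := ((Nat.bijective_iff_injective_and_card φ).2 ⟨hinj, hcard⟩).2 ⟨R, hR⟩
  exact ⟨u, congrArg Subtype.val hu, fun v hv => hinj (hu ▸ Subtype.ext hv)⟩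

theorem smul_self {P : Sylow p X} {u : X} (hu : u ∈ P) : u • P = P :=
  Sylow.smul_eq_iff_mem_normalizer.2 (le_normalizer hu)

theorem exists_pair {a b c e : Sylow p X} (hab : a ≠ b) (hce : c ≠ e) :
    ∃ g : X, g • a = c ∧ g • b = e := by
  obtain ⟨g, hg⟩ := MulAction.exists_smul_eq X a c
  have h1 : g • b ≠ c := fun e' => hab (smul_left_cancel g (hg.trans e'.symm))
  obtain ⟨u, hu, -⟩ := existsUnique_move D h1 hce.symm
  exact ⟨(u : X) * g, by rw [mul_smul, hg, smul_self D u.2], by rw [mul_smul, hu]⟩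

theorem three {g : X} {a b c : Sylow p X} (hab : a ≠ b) (hbc : b ≠ c) (hac : a ≠ c)
    (ha : g • a = a) (hb : g • b = b) (hc : g • c = c) : g = 1 := by
  obtain ⟨⟨u, hu⟩, huc, huniq⟩ := existsUnique_move D hab.symm hac.symm
  have hu1 : u ≠ 1 := fun e => hbc (by rw [← huc]; show b = u • b; rw [e, one_smul])
  have hgu : g * u * g⁻¹ ∈ (a : Subgroup X) := by
    have : g ∈ normalizer ((a : Subgroup X) : Set X) := Sylow.smul_eq_iff_mem_normalizer.1 ha
    exact (mem_normalizer_iff.1 this u).1 hu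
  have h1 : g * u * g⁻¹ = u := congrArg Subtype.val (huniq ⟨_, hgu⟩ (by
    show (g * u * g⁻¹) • b = c
    rw [mul_smul, mul_smul, inv_smul_eq_iff.2 hb.symm, huc, hc]))
  have hga : g ∈ (a : Subgroup X) := (C_eq D hu hu1).le (mem_C.2 (mul_inv_eq_iff_eq_mul.1 h1))
  by_contra hg1
  exact hab (mem_of_fix D hga hg1 hb).symm

theorem card_pairStab {a b : Sylow p X} (hab : a ≠ b) :
    d * Nat.card ↥(Perm.ZassG.pairStab X a b) + 1 = q := by
  have hq4 := D.par.four_le
  have hst := Subgroup.index_mul_card (stabilizer X a)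
  have horb : (stabilizer X a).index = q + 1 := by
    haveI : IsPretransitive X (Sylow p X) := inferInstance
    rw [index_stabilizer_of_transitive, card_sylows D]
  have h1 : Nat.card (stabilizer X a) = q * Nat.card ↥(Perm.ZassG.pairStab X a b) := by
    have hb : ∀ g ∈ stabilizer X a, ∃ u : ↥(a : Subgroup X), (u : X)⁻¹ * g ∈ Perm.ZassG.pairStab X a b := by
      intro g hg
      obtain ⟨u, hu, -⟩ := existsUnique_move D hab.symm
        (show g • b ≠ a from fun e => hab (smul_left_cancel g (hg.trans e.symm)))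
      exact ⟨u, show ((u : X)⁻¹ * g) • a = a by rw [mul_smul, hg, inv_smul_eq_iff, smul_self D u.2],
        show ((u : X)⁻¹ * g) • b = b by rw [mul_smul, inv_smul_eq_iff, hu]⟩
    rw [← card_sylow D a, ← Nat.card_prod]
    refine (Nat.card_congr (Equiv.ofBijective
      (fun z : ↥(a : Subgroup X) × ↥(Perm.ZassG.pairStab X a b) => (⟨(z.1 : X) * z.2,
        show ((z.1 : X) * z.2) • a = a by rw [mul_smul, z.2.2.1, smul_self D z.1.2]⟩ : stabilizer X a))
      ⟨fun z w e => ?_, fun ⟨g, hg⟩ => ?_⟩)).symm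
    · have e' : (z.1 : X) * z.2 = w.1 * w.2 := congrArg Subtype.val e
      have h2 : (z.1 : X) • b = (w.1 : X) • b := by
        have := congrArg (· • b) e'
        simpa [mul_smul, show (z.2 : X) • b = b from z.2.2.2, show (w.2 : X) • b = b from w.2.2.2] using this
      have h3 : z.1 = w.1 := by
        by_contra hne
        refine hab ((mem_of_fix D (x := (w.1 : X)⁻¹ * z.1) (mul_mem (inv_mem w.1.2) z.1.2)
          (fun h1 => hne (Subtype.ext (inv_mul_eq_one.1 h1).symm)) ?_).symm)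
        rw [mul_smul, h2, inv_smul_smul]
      refine Prod.ext h3 (Subtype.ext ?_)
      rw [h3] at e'
      exact mul_left_cancel e'
    · obtain ⟨u, hu⟩ := hb g hg
      exact ⟨(u, ⟨_, hu⟩), Subtype.ext (mul_inv_cancel_left _ _)⟩
  rw [horb, h1, D.card] at hst
  have h2 : (q + 1) * (d * Nat.card ↥(Perm.ZassG.pairStab X a b)) = d * d * h * k :=
    Nat.eq_of_mul_eq_mul_left (show 0 < q by omega)
      (by linear_combination (d : ℕ) * hst)
  have h3 := D.par.sq_eq
  rw [← h2] at h3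
  rcases lt_trichotomy (d * Nat.card ↥(Perm.ZassG.pairStab X a b) + 1) q with hlt | heq | hgt
  · nlinarith
  · exact heq
  · nlinarith

theorem isZassenhaus : Cfsg.IsZassenhausGroup X (Sylow p X) := by
  classical
  have P := D.par
  have hq4 := P.four_le; have hh3 := P.h3; have hk3 := P.k3; have hd0 := P.d_pos
  have hΩ := card_sylows D
  haveI : Nontrivial (Sylow p X) := Finite.one_lt_card_iff_nontrivial.1 (by omega)
  have hne3 : ∀ a b : Sylow p X, ∃ c, c ≠ a ∧ c ≠ b := fun a b => by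
    by_contra hno
    push Not at hno
    haveI := Fintype.ofFinite (Sylow p X)
    have : (Finset.univ : Finset (Sylow p X)).card ≤ ({a, b} : Finset (Sylow p X)).card :=
      Finset.card_le_card fun c _ => by
        rcases eq_or_ne c a with rfl | hc
        · simp
        · simp [hno c hc]
    rw [Finset.card_univ, ← Nat.card_eq_fintype_card, hΩ] at this
    have := Finset.card_le_two (a := a) (b := b)
    omega
  obtain ⟨a, b, hab⟩ := exists_pair_ne (Sylow p X)
  refine ⟨⟨fun {g g'} he => ?_⟩, ?_, fun g a b c => three D, ?_, fun N hN htr => ?_⟩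
  · obtain ⟨c, hca, hcb⟩ := hne3 a b
    have hf : ∀ z : Sylow p X, (g'⁻¹ * g) • z = z := fun z => by rw [mul_smul, he z, inv_smul_smul]
    exact (inv_mul_eq_one.1 (three D hab hcb.symm hca.symm (hf a) (hf b) (hf c))).symm
  · exact is_two_pretransitive_iff.2 fun {a b c e} hab hce => exists_pair D hab hce
  · have hc := card_pairStab D hab
    obtain ⟨g, hg, hg1⟩ : ∃ g ∈ Perm.ZassG.pairStab X a b, g ≠ 1 := by
      by_contra hno
      push Not at hno
      rw [(Subgroup.eq_bot_iff_forall _).2 hno, Subgroup.card_bot] at hc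
      rcases P.d_cases with ⟨e, -⟩ | ⟨e, -⟩ <;> omega
    exact ⟨g, hg1, a, b, hab, hg.1, hg.2⟩
  by_contra hreg
  push Not at hreg
  have hinj : ∀ z : Sylow p X, ∀ m ∈ N, ∀ m' ∈ N, m • z = m' • z → m = m' := by
    intro z m hm m' hm' e
    have h1 : (⟨m'⁻¹ * m, mul_mem (inv_mem hm') hm⟩ : N) ∈ stabilizer N z := by
      show (m'⁻¹ * m) • z = z
      rw [mul_smul, e, inv_smul_smul]
    rw [hreg z, Subgroup.mem_bot] at h1
    exact (inv_mul_eq_one.1 (congrArg Subtype.val h1)).symm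
  have hN1 : Nat.card N = q + 1 := by
    rw [← hΩ, ← index_stabilizer_of_transitive N a, hreg a, Subgroup.index_bot]
  obtain ⟨⟨n₀, hn₀⟩, hn₀b : n₀ • a = b⟩ := MulAction.exists_smul_eq N a b
  have hn1 : n₀ ≠ 1 := fun e => hab (by rw [e, one_smul] at hn₀b; exact hn₀b)
  have hcomm : ∀ e ∈ Perm.ZassG.pairStab X a b, Commute e n₀ := fun e he => by
    refine mul_inv_eq_iff_eq_mul.1 (hinj a _ (hN.conj_mem n₀ hn₀ e) n₀ hn₀ ?_)
    rw [mul_smul, mul_smul, inv_smul_eq_iff.2 he.1.symm, hn₀b, he.2]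
  have hord : ∀ r : ℕ, r.Prime → r ∣ q + 1 → orderOf n₀ = r := fun r hr hrd => by
    haveI := Fact.mk hr
    obtain ⟨⟨m, hm⟩, hmr⟩ := exists_prime_orderOf_dvd_card' r (G := N) (hN1 ▸ hrd)
    rw [Subgroup.orderOf_mk] at hmr
    have hm1 : m ≠ 1 := fun e => by rw [e, orderOf_one] at hmr; exact hr.ne_one hmr.symm
    have hma : m • a ≠ a := fun e => hm1 (hinj a m hm 1 (one_mem N) (by rw [one_smul]; exact e))
    obtain ⟨⟨u, hu⟩, hub, -⟩ := existsUnique_move D hab.symm hma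
    have h2 : u * n₀ * u⁻¹ = m := hinj a _ (hN.conj_mem n₀ hn₀ u) m hm (by
      rw [mul_smul, mul_smul, inv_smul_eq_iff.2 (smul_self D hu).symm, hn₀b]; exact hub)
    rw [← hmr, ← h2]
    exact (orderOf_injective (MulAut.conj u).toMonoidHom (MulAut.conj u).injective n₀).symm
  have hE := card_pairStab D hab
  have fin : ∀ r s : ℕ, r.Prime → s.Prime →
      (r ∣ Nat.card ↥(Perm.ZassG.pairStab X a b) ∧ s ∣ q + 1) →
      (r ∣ h ∧ s ∣ k) ∨ (r ∣ k ∧ s ∣ h) → False := by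
    rintro r s hr hs ⟨hrE, hsN⟩ hor
    haveI := Fact.mk hr
    obtain ⟨⟨e, he⟩, her⟩ := exists_prime_orderOf_dvd_card' r hrE
    rw [Subgroup.orderOf_mk] at her
    rcases hor with ⟨h1, h2⟩ | ⟨h1, h2⟩
    · exact D.no_hk e n₀ r s hr hs h1 h2 her (hord s hs hsN) (hcomm e he)
    · exact D.no_hk n₀ e s r hs hr h2 h1 (hord s hs hsN) her (hcomm e he).symm
  obtain ⟨r, hr, hrE⟩ := Nat.exists_prime_and_dvd (show Nat.card ↥(Perm.ZassG.pairStab X a b) ≠ 1 by
    intro e
    rw [e] at hE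
    rcases P.d_cases with ⟨e', -⟩ | ⟨e', -⟩ <;> omega)
  rcases P.hd with ⟨hd, -, h1, h2⟩ | ⟨hd, -, he, ho, (⟨h1, h2⟩ | ⟨h1, h2⟩)⟩ <;> rw [hd] at hE
  · obtain ⟨s, hs, hsN⟩ := Nat.exists_prime_and_dvd (show q + 1 ≠ 1 by omega)
    refine fin r s hr hs ⟨hrE, hsN⟩ (.inl ⟨?_, h2 ▸ hsN⟩)
    rwa [show h = Nat.card ↥(Perm.ZassG.pairStab X a b) by omega]
  · obtain ⟨s, hs, hsk⟩ := Nat.exists_prime_and_dvd (show k ≠ 1 by omega)
    have h3 := (hord 2 Nat.prime_two ⟨k, h2.symm⟩).symm.trans (hord s hs (h2 ▸ hsk.mul_left 2))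
    exact ho.not_two_dvd_nat (h3 ▸ hsk)
  · refine fin r 2 hr Nat.prime_two ⟨hrE, ⟨h, h1.symm⟩⟩ (.inr ⟨?_, he.two_dvd⟩)
    rwa [show k = Nat.card ↥(Perm.ZassG.pairStab X a b) by omega]

theorem exists_iso : ∃ (K : Type) (_ : Field K) (_ : Fintype K), Nat.card K = q ∧
    Nonempty (X ≃* Matrix.ProjectiveSpecialLinearGroup (Fin 2) K) := by
  classical
  have P := D.par
  have hq4 := P.four_le
  have hΩ := card_sylows D
  have hZ := isZassenhaus D
  haveI : Nontrivial (Sylow p X) := Finite.one_lt_card_iff_nontrivial.1 (by omega)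
  obtain ⟨a, b, hab⟩ := exists_pair_ne (Sylow p X)
  obtain ⟨F, hF⟩ := Perm.ZassG.exists_kernel hZ hab
  have hFc := hF.card_add_one hab
  have hE := card_pairStab D hab
  rcases P.d_cases with ⟨hd, hp2⟩ | ⟨hd, -⟩ <;> rw [hd] at hE
  · have heven : Even q := by rw [P.hq, hp2]; exact (Nat.even_pow' P.hf.ne').2 even_two
    obtain ⟨K, hK, hK', hKc, ⟨i⟩⟩ := Perm.ZassG.exists_pgl_of_odd hZ hab (by omega)
      (by rw [hΩ]; exact heven.add_one)
    have hKq : Nat.card K = q := by omega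
    have htop : PSL2.pslRange K = ⊤ := PSL2.pslRange_eq_top_of_even (hKq ▸ heven)
    exact ⟨K, hK, hK', hKq, ⟨i.trans (MulEquiv.ofBijective _
      ⟨Matrix.ProjectiveSpecialLinearGroup.toPGL_injective, MonoidHom.range_eq_top.1 htop⟩).symm⟩⟩
  · obtain ⟨K, hK, hK', -, hKc, hi⟩ := Perm.ZassG.exists_psl hZ hab hF (by omega)
    exact ⟨K, hK, hK', by omega, hi⟩

end CfsgLib.CsPSL
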